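import Groth.Prelude.Def_BMCoh2
import Groth.Agent.DimLift.Basic
import Groth.Agent.RedSub.Basic

/-!
Dimension of points, subschemes and opens of the objects of a constructible class.
-/

set_option autoImplicit false

universe u

open AlgebraicGeometry CategoryTheory TopologicalSpace Topology Order

namespace Groth.Agent.BMLib

open BMCoh WeilCoh

attribute [local instance] specializationOrder

lemma natDim_congr {S T : Type u} [TopologicalSpace S] [TopologicalSpace T] (f : S → T)
    (hf : IsEmbedding f) (A : Set T) (hA : Set.range f = A) : natDim S = natDim ↥A := by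
  subst hA
  unfold natDim
  rw [IsHomeomorph.topologicalKrullDim_eq _ (Homeomorph.isHomeomorph hf.toHomeomorph)]

lemma krullDim_Iic_closure {T : Type u} [TopologicalSpace T] [T0Space T] [QuasiSober T] (x : T) :
    topologicalKrullDim ↥(closure ({x} : Set T)) = (height x : WithBot ℕ∞) := by
  have : QuasiSober ↥(closure ({x} : Set T)) :=
    (isClosed_closure.isClosedEmbedding_subtypeVal).quasiSober
  rw [DimLift.topDim_eq_krullDim_points, height_eq_krullDim_Iic]
  let _ : PartialOrder ↥(closure ({x} : Set T)) := specializationOrder _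
  refine @krullDim_eq_of_orderIso _ _ (specializationOrder ↥(closure ({x} : Set T))).toPreorder _
    { toFun := fun z => ⟨z.1, specializes_iff_mem_closure.2 z.2⟩
      invFun := fun z => ⟨z.1, specializes_iff_mem_closure.1 z.2⟩
      left_inv := fun _ => rfl
      right_inv := fun _ => rfl
      map_rel_iff' := fun {a b} => (subtype_specializes_iff (x := b) (y := a)).symm }

variable {X Y : Scheme.{u}}

lemma pdim_eq_toNat (x : X) : pdim X x = (height x).toNat := by
  show ((topologicalKrullDim ↥(closure ({x} : Set X))).unbotD 0).toNat = _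
  rw [krullDim_Iic_closure]
  rfl

lemma dim_eq_toNat (X : Scheme.{u}) : dim X = ((krullDim X).unbotD 0).toNat := by
  show ((topologicalKrullDim X).unbotD 0).toNat = _
  rw [DimLift.topDim_eq_krullDim_points]

variable {V : ObjectProperty Scheme.{u}} [IsConstructible V]

lemma krullDim_lt_top (hX : V X) : krullDim X < ⊤ := by
  rw [← DimLift.topDim_eq_krullDim_points]
  exact IsConstructible.finiteDim hX

lemma height_lt_top (hX : V X) (x : X) : height x < ⊤ := by
  have := (height_le_krullDim x).trans_lt (krullDim_lt_top hX)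
  exact WithBot.coe_lt_coe.1 this

lemma coe_pdim (hX : V X) (x : X) : (pdim X x : ℕ∞) = height x := by
  rw [pdim_eq_toNat, ENat.natCast_toNat (height_lt_top hX x).ne]

lemma pdim_lt_of_specializes (hX : V X) {x y : X} (h : x ⤳ y) (hne : x ≠ y) :
    pdim X y < pdim X x := by
  have hlt : y < x := lt_of_le_of_ne h (Ne.symm hne)
  have := height_strictMono hlt (height_lt_top hX y)
  rw [← coe_pdim hX, ← coe_pdim hX] at this
  exact_mod_cast this

lemma pdim_le_of_specializes (hX : V X) {x y : X} (h : x ⤳ y) : pdim X y ≤ pdim X x := by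
  by_cases hne : x = y
  · rw [hne]
  · exact (pdim_lt_of_specializes hX h hne).le

lemma eq_of_specializes_of_pdim_le (hX : V X) {x y : X} (h : x ⤳ y)
    (hle : pdim X x ≤ pdim X y) : x = y :=
  by_contra fun hne => absurd (pdim_lt_of_specializes hX h hne) (not_lt.2 hle)

lemma pdim_le_dim (hX : V X) (x : X) : pdim X x ≤ dim X := by
  have : Nonempty X := ⟨x⟩
  rw [dim_eq_toNat, pdim_eq_toNat]
  obtain ⟨k, hk⟩ := WithBot.ne_bot_iff_exists.1
    (show krullDim X ≠ ⊥ from bot_lt_iff_ne_bot.1 (WithBot.bot_lt_coe _ |>.trans_le (height_le_krullDim x)))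
  have h1 := height_le_krullDim x
  have h2 := krullDim_lt_top hX
  rw [← hk] at h1 h2 ⊢
  exact ENat.toNat_le_toNat (WithBot.coe_le_coe.1 h1) (WithBot.coe_lt_coe.1 h2).ne

lemma exists_pdim_eq_dim (hX : V X) [Nonempty X] : ∃ x, pdim X x = dim X := by
  obtain ⟨x, hx⟩ : ∃ x : X, ∀ y : X, pdim X y ≤ pdim X x := by
    have hb : BddAbove (Set.range fun x : X => pdim X x) :=
      ⟨dim X, by rintro _ ⟨x, rfl⟩; exact pdim_le_dim hX x⟩
    obtain ⟨x, hx⟩ := Nat.sSup_mem (Set.range_nonempty _) hb
    exact ⟨x, fun y => (le_csSup hb ⟨y, rfl⟩).trans_eq hx.symm⟩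
  refine ⟨x, le_antisymm (pdim_le_dim hX x) ?_⟩
  have : krullDim X ≤ ((pdim X x : ℕ∞) : WithBot ℕ∞) := by
    rw [krullDim_eq_iSup_height]
    exact iSup_le fun y => WithBot.coe_le_coe.2 (by rw [← coe_pdim hX]; exact_mod_cast hx y)
  rw [dim_eq_toNat]
  have hne : krullDim X ≠ ⊥ :=
    bot_lt_iff_ne_bot.1 (WithBot.bot_lt_coe _ |>.trans_le (height_le_krullDim x))
  obtain ⟨k, hk⟩ := WithBot.ne_bot_iff_exists.1 hne
  rw [← hk] at this ⊢
  exact (ENat.toNat_le_toNat (WithBot.coe_le_coe.1 this) (ENat.natCast_ne_top _)).trans_eq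
    (ENat.toNat_natCast _)

lemma dim_eq_of (hX : V X) {m : ℕ} (h1 : ∀ x, pdim X x ≤ m) (h2 : ∃ x, pdim X x = m) :
    dim X = m := by
  obtain ⟨x, hx⟩ := h2
  have : Nonempty X := ⟨x⟩
  obtain ⟨y, hy⟩ := exists_pdim_eq_dim hX
  exact le_antisymm (hy ▸ h1 y) (hx ▸ pdim_le_dim hX x)

lemma pdim_closedImmersion (f : Y ⟶ X) [IsClosedImmersion f] (y : Y) :
    pdim Y y = pdim X (f y) := by
  refine natDim_congr (fun z : ↥(closure ({y} : Set Y)) => f z.1)
    (f.isClosedEmbedding.isEmbedding.comp IsEmbedding.subtypeVal) _ ?_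
  rw [show (fun z : ↥(closure ({y} : Set Y)) => f z.1) = f ∘ Subtype.val from rfl,
    Set.range_comp, Subtype.range_coe]
  rw [← f.isClosedEmbedding.closure_image_eq, Set.image_singleton]

variable (X : Obj V) (x : X.scheme)

lemma range_ptSubι : Set.range (X.ptSubι x) = closure ({x} : Set X.scheme) :=
  RedSub.range_vanishingIdeal_subschemeι _

instance isReduced_ptSub : IsReduced (X.ptSub x).scheme :=
  RedSub.isReduced_vanishingIdeal _

/-- The generic point of the closure of `x`. -/
noncomputable def gen : (X.ptSub x).scheme :=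
  ((range_ptSubι X x).symm ▸ subset_closure rfl : x ∈ Set.range (X.ptSubι x)).choose

@[simp] lemma ι_gen : X.ptSubι x (gen X x) = x :=
  ((range_ptSubι X x).symm ▸ subset_closure rfl : x ∈ Set.range (X.ptSubι x)).choose_spec

lemma gen_specializes (z : (X.ptSub x).scheme) : gen X x ⤳ z := by
  rw [← (X.ptSubι x).isClosedEmbedding.isInducing.specializes_iff, ι_gen]
  exact specializes_iff_mem_closure.2 (range_ptSubι X x ▸ ⟨z, rfl⟩)

lemma gen_mem {U : (X.ptSub x).scheme.Opens} (h : (U : Set (X.ptSub x).scheme).Nonempty) :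
    gen X x ∈ U :=
  h.elim fun z hz => (gen_specializes X x z).mem_open U.isOpen hz

lemma eq_gen {z : (X.ptSub x).scheme} (h : X.ptSubι x z = x) : z = gen X x :=
  (X.ptSubι x).isClosedEmbedding.injective (h.trans (ι_gen X x).symm)

instance irreducible_ptSub : IrreducibleSpace (X.ptSub x).scheme := by
  have hu : (Set.univ : Set (X.ptSub x).scheme) = closure {gen X x} :=
    (Set.eq_univ_of_forall fun z => specializes_iff_mem_closure.1 (gen_specializes X x z)).symm
  have h : IsIrreducible (Set.univ : Set (X.ptSub x).scheme) := hu ▸ isIrreducible_singleton.closure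
  exact { isPreirreducible_univ := h.2, toNonempty := ⟨gen X x⟩ }

lemma dim_ptSub : dim (X.ptSub x).scheme = pdim X.scheme x :=
  natDim_congr _ (X.ptSubι x).isClosedEmbedding.isEmbedding _ (range_ptSubι X x)

lemma dim_open_ptSub (U : (X.ptSub x).scheme.Opens) (h : (U : Set (X.ptSub x).scheme).Nonempty) :
    dim (U : Scheme.{u}) = dim (X.ptSub x).scheme :=
  IsConstructible.dim_open (X.ptSub x).mem inferInstance U h

lemma pdim_openImmersion {Y : Scheme.{u}} (f : Y ⟶ X.scheme) [IsOpenImmersion f] (y : Y) :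
    pdim Y y = pdim X.scheme (f y) := by
  let U : (X.ptSub (f y)).scheme.Opens := X.ptSubι (f y) ⁻¹ᵁ f.opensRange
  have hU : (U : Set _).Nonempty := ⟨gen X (f y), by
    show X.ptSubι (f y) (gen X (f y)) ∈ f.opensRange
    rw [ι_gen]; exact ⟨y, rfl⟩⟩
  refine Eq.trans ?_ ((dim_open_ptSub X (f y) U hU).trans (dim_ptSub X (f y)))
  refine (natDim_congr (fun z : ↥(closure ({y} : Set Y)) => f z.1)
    (f.isOpenEmbedding.isEmbedding.comp IsEmbedding.subtypeVal)
    (closure {f y} ∩ Set.range f) ?_).trans
    (natDim_congr (fun z : (U : Scheme.{u}) => X.ptSubι (f y) z.1)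
      ((X.ptSubι (f y)).isClosedEmbedding.isEmbedding.comp IsEmbedding.subtypeVal) _ ?_).symm
  · rw [show (fun z : ↥(closure ({y} : Set Y)) => f z.1) = f ∘ Subtype.val from rfl,
      Set.range_comp, Subtype.range_coe, f.isOpenEmbedding.isInducing.closure_eq_preimage_closure_image,
      Set.image_singleton, Set.image_preimage_eq_inter_range]
  · show Set.range (X.ptSubι (f y) ∘ (Subtype.val : {z // z ∈ (U : Set _)} → _)) = _
    rw [Set.range_comp, Subtype.range_coe]
    rw [show (U : Set (X.ptSub (f y)).scheme) = X.ptSubι (f y) ⁻¹' Set.range f from rfl,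
      Set.image_preimage_eq_inter_range, range_ptSubι, Set.inter_comm]

/-- The points of maximal dimension force an open to have full dimension. -/
lemma dim_opens_eq {U : X.scheme.Opens}
    (h : ∀ z : X.scheme, pdim X.scheme z = dim X.scheme → z ∈ U) :
    dim (U : Scheme.{u}) = dim X.scheme := by
  rcases isEmpty_or_nonempty X.scheme with he | hne
  · rw [show U = ⊤ from Opens.ext (Set.eq_univ_of_forall fun z => he.elim z)]
    exact dim_top _
  obtain ⟨z, hz⟩ := exists_pdim_eq_dim X.mem
  refine dim_eq_of (X.res U).mem (fun w => ?_) ⟨⟨z, h z hz⟩, ?_⟩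
  · rw [pdim_openImmersion X U.ι]; exact pdim_le_dim X.mem _
  · rw [pdim_openImmersion X U.ι]; exact hz

lemma containsFj_dim {j : ℕ} {U : X.scheme.Opens} (h : ContainsFj X j U) :
    dim (U : Scheme.{u}) = dim X.scheme :=
  dim_opens_eq X fun z hz => h z (by simp [WeilCoh.codim, hz])

lemma codim_eq_iff {c : ℕ} (hc : c ≤ dim X.scheme) :
    codim X.scheme x = c ↔ pdim X.scheme x = dim X.scheme - c := by
  have := pdim_le_dim X.mem x
  simp only [WeilCoh.codim]
  omega

lemma codim_lt_of_specializes {x y : X.scheme} (h : x ⤳ y) (hne : x ≠ y) :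
    codim X.scheme x < codim X.scheme y := by
  have := pdim_lt_of_specializes X.mem h hne
  have := pdim_le_dim X.mem x
  simp only [WeilCoh.codim]
  omega

lemma codim_le_of_specializes {x y : X.scheme} (h : x ⤳ y) :
    codim X.scheme x ≤ codim X.scheme y := by
  by_cases hne : x = y
  · rw [hne]
  · exact (codim_lt_of_specializes X h hne).le

lemma eq_of_specializes_of_codim_le {x y : X.scheme} (h : x ⤳ y)
    (hle : codim X.scheme y ≤ codim X.scheme x) : x = y :=
  by_contra fun hne => absurd (codim_lt_of_specializes X h hne) (not_lt.2 hle)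

lemma exists_generic_points (S : Set X.scheme) (hS : IsClosed S) :
    ∃ G : Finset X.scheme, (∀ g ∈ G, g ∈ S) ∧ ∀ z ∈ S, ∃ g ∈ G, g ⤳ z := by
  classical
  have : IsNoetherian X.scheme := IsConstructible.isNoetherian X.mem
  obtain ⟨F, hF, hc, hirr, hu⟩ := NoetherianSpace.exists_finite_set_isClosed_irreducible hS
  have hF' : Fintype F := hF.fintype
  refine ⟨Finset.univ.image fun t : F => (hirr t.1 t.2).genericPoint, ?_, ?_⟩
  · simp only [Finset.mem_image, Finset.mem_univ, true_and]
    rintro g ⟨t, rfl⟩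
    rw [hu]
    refine ⟨t.1, t.2, ?_⟩
    have := (hirr t.1 t.2).isGenericPoint_genericPoint_closure
    rw [(hc t.1 t.2).closure_eq] at this
    exact this.mem
  · intro z hz
    rw [hu] at hz
    obtain ⟨t, ht, hzt⟩ := hz
    refine ⟨(hirr t ht).genericPoint, Finset.mem_image.2 ⟨⟨t, ht⟩, Finset.mem_univ _, rfl⟩, ?_⟩
    exact (hirr t ht).isGenericPoint_genericPoint_closure.specializes (subset_closure hzt)

end Groth.Agent.BMLib
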