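import Groth.Prelude.Def_BMCoh3
import Groth.Agent.BMLib.Dim
import Mathlib.CategoryTheory.Limits.Types.Filtered
import Mathlib.Algebra.Category.ModuleCat.FilteredColimits

/-!
Elements of the open-system colimits of a pre-theory.
-/

set_option autoImplicit false

universe u

open AlgebraicGeometry CategoryTheory CategoryTheory.Limits Opposite

namespace Groth.Agent.BMLib

open BMCoh

variable {V : ObjectProperty Scheme.{u}} [IsConstructible V] {R : Type u} [CommRing R]
  {A : Coefs R} (T : PreTheory V R A) {X : Obj V} {P : X.scheme.Opens → Prop}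

/-- The colimit cocone of the evaluation at a coefficient module. -/
noncomputable def ocolimIsColimit (M : A.Cat) (i n : ℤ) :
    IsColimit (((evaluation A.Cat (ModuleCat.{u} R)).obj M).mapCocone
      (colimit.cocone ((idxDiag X P).op ⋙ T.H i n))) :=
  isColimitOfPreserves _ (colimit.isColimit _)

lemma ι_res {U U' : Idx X P} (h : U' ≤ U) (hd) (M : A.Cat) (i n : ℤ) (b : T.gp (X.res U.1) M i n) :
    ((T.ocolimι X P i n U').app M).hom ((T.pull (X.resLE (U := U'.1) (U' := U.1) h hd) M i n).hom b) =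
      ((T.ocolimι X P i n U).app M).hom b := by
  have := colimit.w ((idxDiag X P).op ⋙ T.H i n) (homOfLE h).op
  exact congr($(NatTrans.congr_app this M).hom b)

lemma fjRes_ι {j m : ℕ} (h : j ≤ m) (U : Idx X (ContainsFj X m)) (M : A.Cat) (i n : ℤ)
    (b : T.gp (X.res U.1) M i n) :
    ((T.fjRes X h i n).app M).hom (((T.fjι X m i n U).app M).hom b) =
      ((T.fjι X j i n ⟨U.1, containsFj_mono X h _ U.2.1, U.2.2⟩).app M).hom b := by
  have := colimit.ι_pre ((idxDiag X (ContainsFj X j)).op ⋙ T.H i n)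
    (idxIncl X (containsFj_mono X h)).op (op U)
  exact congr($(NatTrans.congr_app this M).hom b)

/-- A property of opens whose dimensionwise members are directed downwards. -/
class GoodIdx (X : Obj V) (P : X.scheme.Opens → Prop) : Prop where
  nonempty : Nonempty (Idx X P)
  directed : ∀ U U' : Idx X P, ∃ W : Idx X P, W.1 ≤ U.1 ∧ W.1 ≤ U'.1

omit [IsConstructible V] in
lemma containsFj_inf {j : ℕ} {U U' : X.scheme.Opens} (h : ContainsFj X j U)
    (h' : ContainsFj X j U') : ContainsFj X j (U ⊓ U') :=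
  fun y hy => ⟨h y hy, h' y hy⟩

/-- An open containing the points of codimension at most `j`, as an index. -/
abbrev fjIdx {j : ℕ} {U : X.scheme.Opens} (h : ContainsFj X j U) : Idx X (ContainsFj X j) :=
  ⟨U, h, containsFj_dim X h⟩

@[simp] lemma fjIdx_val {j : ℕ} {U : X.scheme.Opens} (h : ContainsFj X j U) : (fjIdx h).1 = U := rfl

instance goodIdx_fj (j : ℕ) : GoodIdx X (ContainsFj X j) where
  nonempty := ⟨fjIdx (U := ⊤) fun _ _ => trivial⟩
  directed U U' := ⟨fjIdx (containsFj_inf U.2.1 U'.2.1), inf_le_left, inf_le_right⟩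

/-- A nonempty open of the closure of a point, as an index. -/
abbrev ptI (x : X.scheme) (U : (X.ptSub x).scheme.Opens) (h : gen X x ∈ U) : ptIdx X x :=
  ⟨U, ⟨gen X x, h⟩, dim_open_ptSub X x U ⟨gen X x, h⟩⟩

instance goodIdx_pt (x : X.scheme) :
    GoodIdx (X.ptSub x) (fun U => (U : Set (X.ptSub x).scheme).Nonempty) where
  nonempty := ⟨ptI x ⊤ trivial⟩
  directed U U' := ⟨ptI x (U.1 ⊓ U'.1) ⟨gen_mem X x U.2.1, gen_mem X x U'.2.1⟩,
    inf_le_left, inf_le_right⟩

variable [hP : GoodIdx X P]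

instance : IsFiltered (Idx X P)ᵒᵖ := by
  have := hP.nonempty
  have : IsDirected (Idx X P) (· ≥ ·) := ⟨fun U U' => hP.directed U U'⟩
  infer_instance

lemma exists_rep (M : A.Cat) (i n : ℤ) (a : (T.ocolim X P i n).obj M) :
    ∃ (U : Idx X P) (b : T.gp (X.res U.1) M i n), ((T.ocolimι X P i n U).app M).hom b = a := by
  obtain ⟨U, b, hb⟩ := Types.jointly_surjective_of_isColimit
    (isColimitOfPreserves (forget (ModuleCat.{u} R)) (ocolimIsColimit T M i n)) a
  exact ⟨U.unop, b, hb⟩

lemma ι_eq_zero (U : Idx X P) (M : A.Cat) (i n : ℤ) (b : T.gp (X.res U.1) M i n)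
    (hb : ((T.ocolimι X P i n U).app M).hom b = 0) :
    ∃ (U' : Idx X P) (h : U'.1 ≤ U.1),
      (T.pull (X.resLE h (U'.2.2.trans U.2.2.symm)) M i n).hom b = 0 := by
  obtain ⟨U', f, hf⟩ := (Types.FilteredColimit.isColimit_eq_iff' (J := (Idx X P)ᵒᵖ)
    (isColimitOfPreserves (forget (ModuleCat.{u} R)) (ocolimIsColimit T M i n))
    (i := op U) b (0 : T.gp (X.res U.1) M i n)).1 (by
      show ((T.ocolimι X P i n U).app M).hom b = ((T.ocolimι X P i n U).app M).hom 0
      rw [hb, map_zero])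
  refine ⟨U'.unop, leOfHom f.unop, ?_⟩
  refine Eq.trans ?_ (hf.trans ?_)
  · rfl
  · exact map_zero (T.pull (X := (idxDiag X P).obj U'.unop) (Y := (idxDiag X P).obj U) ((idxDiag X P).map f.unop) M i n).hom

end Groth.Agent.BMLib
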