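import Groth.Agent.BMLib.Pair

/-!
Core exactness statements for the groups of the loci of bounded codimension, without data.
-/

set_option autoImplicit false
set_option linter.unusedSectionVars false

universe u

open AlgebraicGeometry CategoryTheory CategoryTheory.Limits Opposite TopologicalSpace

namespace Groth.Agent.BMLib

open BMCoh

variable {V : ObjectProperty Scheme.{u}} [IsConstructible V] {R : Type u} [CommRing R]
  {A : Coefs R} (T : PreTheory V R A) {X : Obj V} (M : A.Cat)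

variable {c j : ℕ} {U Y : X.scheme.Opens} {s : Finset X.scheme}

/-- The class at a point of `s` of a class on the complement of `U` in `Y`. -/
noncomputable def ptCls (hG : Good X c U Y s) (x : s) (i n : ℤ)
    (r : T.gp (pairZ X U Y) M i n) : T.ptGp X x.1 M i n :=
  ((T.ptι X x.1 i n (pieceIdx X x.1 (hG.mem x.1 x.2))).app M).hom
    ((T.pull (hG.toZ x) M i n).hom r)

lemma Good.hcodim (hG : Good X c U Y s) (hs : s.Nonempty) {U' : X.scheme.Opens} (h : U' ≤ Y)
    (hd) (e : U' = U) : (pairDec X h hd).codim = c := by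
  subst e
  exact hG.relCodim_pairZ hs

lemma Good.relCodim_piece (hG : Good X c U Y s) (x : s) :
    relCodim ((X.ptSub x.1).res (piece X x.1 Y)).scheme (X.res Y).scheme = c := by
  have := hG.c_le ⟨x.1, x.2⟩
  show (WeilCoh.dim (Y : Scheme.{u}) : ℤ) - (WeilCoh.dim (piece X x.1 Y : Scheme.{u}) : ℤ) = c
  rw [hG.dimY, dim_piece X x.1 (hG.mem x.1 x.2), hG.pdim_eq x.2]
  omega

lemma Good.eq_of_empty (hG : Good X c U Y s) (hs : ¬ s.Nonempty) : U = Y :=
  le_antisymm hG.le fun z hz => by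
    by_contra h
    obtain ⟨x, hx, -⟩ := hG.cover z hz h
    exact hs ⟨x, hx⟩

lemma Good.dimUY (hG : Good X c U Y s) (hU : ContainsFj X j U) :
    WeilCoh.dim (U : Scheme.{u}) = WeilCoh.dim (Y : Scheme.{u}) :=
  (containsFj_dim X hU).trans hG.dimY.symm

lemma pull_ι {P : X.scheme.Opens → Prop} {U U' U'' : Idx X P} (h : U'.1 ≤ U.1) (h' : U''.1 ≤ U'.1)
    (hd) (hd') (i n : ℤ) (a : T.gp (X.res U.1) M i n) :
    (T.pull (X.resLE h' hd') M i n).hom ((T.pull (X.resLE h hd) M i n).hom a) =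
      (T.pull (X.resLE (h'.trans h) (hd'.trans hd)) M i n).hom a := by
  rw [pull_pull, resLE_resLE]

/-- A class on the complement vanishing at all points vanishes after shrinking. -/
lemma exists_shrink_zero (hG : Good X c U Y s) (hY : ContainsFj X c Y) {i n : ℤ}
    (r : T.gp (pairZ X U Y) M i n) (hr : ∀ x, ptCls T M hG x i n r = 0) :
    ∃ (Y' : X.scheme.Opens) (hle : Y' ≤ Y), ContainsFj X c Y' ∧
      ∃ (_ : Good X c (U ⊓ Y') Y' s), ∀ hZ, (T.pull (pairMap X hle hZ) M i n).hom r = 0 := by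
  choose W hWle hW using fun x : s => ι_eq_zero T (pieceIdx X x.1 (hG.mem x.1 x.2)) M i n _ (hr x)
  obtain ⟨Y', hle, hY', hp⟩ := exists_shrink X c Y hY s hG.codim_eq (fun x => (W x).1)
    (fun x => gen_mem X x.1 (W x).2.1)
  have hG' : Good X c (U ⊓ Y') Y' s := hG.restrict hle (containsFj_dim X hY')
    fun x hx => hY' x (hG.codim_eq x hx).le
  refine ⟨Y', hle, hY', hG', fun hZ => hG'.isDisjointCover.eq_zero fun x => ?_⟩
  have hm' := gen_mem_piece X x.1 (hG'.mem x.1 x.2)
  rw [pull_pull, hG.toZ_pairMap x hle hG' hZ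
    ((dim_open_ptSub X x.1 _ ⟨_, hm'⟩).trans
      (dim_open_ptSub X x.1 _ ⟨_, gen_mem_piece X x.1 (hG.mem x.1 x.2)⟩).symm), ← pull_pull]
  have hd' : WeilCoh.dim (piece X x.1 Y' : Scheme.{u}) = WeilCoh.dim ((W x).1 : Scheme.{u}) :=
    (dim_open_ptSub X x.1 _ ⟨_, hm'⟩).trans (W x).2.2.symm
  have e := pull_pull T M ((X.ptSub x.1).resLE (hp x) hd')
    ((X.ptSub x.1).resLE (hWle x)
      ((W x).2.2.trans (pieceIdx X x.1 (hG.mem x.1 x.2)).2.2.symm)) i n
    ((T.pull (hG.toZ x) M i n).hom r)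
  rw [resLE_resLE (X.ptSub x.1)] at e
  exact e.symm.trans ((congrArg _ (hW x)).trans (map_zero _))

variable {T M}

lemma fjι_res {P : X.scheme.Opens → Prop} {U U' : Idx X P} (h : U'.1 ≤ U.1) (hd) (i n : ℤ)
    (b : T.gp (X.res U.1) M i n) :
    ((T.ocolimι X P i n U').app M).hom ((T.pull (X.resLE h hd) M i n).hom b) =
      ((T.ocolimι X P i n U).app M).hom b :=
  ι_res T h hd M i n b

/-- Surjectivity core. -/
lemma mem_range_fjRes (hG : Good X c U Y s) (hc : c = j + 1) (hU : ContainsFj X j U)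
    (hY : ContainsFj X c Y) {i n i' n' : ℤ} (hi : i' = i + 1 - 2 * ((j : ℤ) + 1))
    (hn : n' = n - ((j : ℤ) + 1)) (a : T.gp (X.res U) M i n)
    (h : ∀ x (hiD : i' = i + 1 - 2 * (pairDec X hG.le (hG.dimUY hU)).codim) (hnD),
      ptCls T M hG x i' n' ((T.res (pairDec X hG.le (hG.dimUY hU)) M i n i' n' hiD hnD).hom a) = 0) :
    ((T.fjι X j i n (fjIdx hU)).app M).hom a ∈
      LinearMap.range ((T.fjRes X (Nat.le_succ j) i n).app M).hom := by
  subst hc
  by_cases hs : s.Nonempty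
  · have hcd : (pairDec X hG.le (hG.dimUY hU)).codim = ((j : ℤ) + 1) := by
      rw [hG.hcodim hs hG.le _ rfl]; push_cast; ring
    have hiD : i' = i + 1 - 2 * (pairDec X hG.le (hG.dimUY hU)).codim := by rw [hcd]; exact hi
    have hnD : n' = n - (pairDec X hG.le (hG.dimUY hU)).codim := by rw [hcd]; exact hn
    obtain ⟨Y', hle, hY', hG', hz⟩ := exists_shrink_zero T M hG hY _ (fun x => h x hiD hnD)
    have hU' : ContainsFj X j (U ⊓ Y') := containsFj_inf hU (containsFj_mono X (Nat.le_succ j) _ hY')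
    have hcd' : (pairDec X hG'.le (hG'.dimUY hU')).codim = ((j : ℤ) + 1) := by
      rw [hG'.hcodim hs hG'.le _ rfl]; push_cast; ring
    have hZ : WeilCoh.dim (pairZ X (U ⊓ Y') Y').scheme = WeilCoh.dim (pairZ X U Y).scheme := by
      rw [hG'.dim_pairZ hs, hG.dim_pairZ hs]
    have h0 := (res_pairMap X hle T M hG.le (hG.dimUY hU) (hG'.dimUY hU')
      (hG'.dimY.trans hG.dimY.symm) hZ hiD hnD
      (by rw [hcd']; exact hi) (by rw [hcd']; exact hn) a).trans (hz hZ)
    obtain ⟨b, hb⟩ := exists_pull_of_res _ _ _ h0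
    refine ⟨((T.fjι X (j + 1) i n (fjIdx hY')).app M).hom b, ?_⟩
    rw [fjRes_ι]
    have e1 := fjι_res (T := T) (M := M) (P := ContainsFj X j)
      (U := fjIdx (containsFj_mono X (Nat.le_succ j) _ hY')) (U' := fjIdx hU')
      inf_le_right (hG'.dimUY hU') i n b
    have e2 := fjι_res (T := T) (M := M) (P := ContainsFj X j)
      (U := fjIdx hU) (U' := fjIdx hU') inf_le_left
      ((containsFj_dim X hU').trans (containsFj_dim X hU).symm) i n a
    exact e1.symm.trans ((congrArg _ hb).trans e2)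
  · obtain rfl := hG.eq_of_empty hs
    exact ⟨((T.fjι X (j + 1) i n (fjIdx hY)).app M).hom a, fjRes_ι ..⟩

/-- Kernel core. -/
lemma exists_push_of_fjRes_eq_zero {i n i' n' : ℤ} (hi : i' = i + 2 * ((j + 1 : ℕ) : ℤ))
    (hn : n' = n + ((j + 1 : ℕ) : ℤ)) (α : T.fjGp X (j + 1) M i' n')
    (h : ((T.fjRes X (Nat.le_succ j) i' n').app M).hom α = 0) :
    α = 0 ∨ ∃ (U Y : X.scheme.Opens) (s : Finset X.scheme) (_ : Good X (j + 1) U Y s)
      (hY : ContainsFj X (j + 1) Y) (_ : ContainsFj X j U) (_ : s.Nonempty) (hi' : _) (hn' : _)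
      (c : T.gp (pairZ X U Y) M i n),
      ((T.fjι X (j + 1) i' n' (fjIdx hY)).app M).hom
        ((T.push (pairι X U Y) M i n i' n' hi' hn').hom c) = α := by
  obtain ⟨Y₁, b, rfl⟩ := exists_rep T M i' n' α
  rw [fjRes_ι] at h
  obtain ⟨U, hU₁, hb⟩ := ι_eq_zero T (fjIdx (containsFj_mono X (Nat.le_succ j) _ Y₁.2.1)) M i' n' b h
  obtain ⟨Y, s, hYle, hY, hG, -⟩ := exists_good X (j + 1) U.1 Y₁.1
    (fun z hz => U.2.1 z (Nat.lt_succ_iff.1 hz)) Y₁.2.1
  have hU' : ContainsFj X j (U.1 ⊓ Y) := containsFj_inf U.2.1 (containsFj_mono X (Nat.le_succ j) _ hY)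
  have hd : WeilCoh.dim (Y : Scheme.{u}) = WeilCoh.dim (Y₁.1 : Scheme.{u}) :=
    (containsFj_dim X hY).trans Y₁.2.2.symm
  have h0 : (T.pull (X.resLE hG.le (hG.dimUY hU')) M i' n').hom
      ((T.pull (X.resLE hYle hd) M i' n').hom b) = 0 := by
    rw [pull_pull, resLE_resLE]
    have e := pull_pull T M (X.resLE (U := U.1 ⊓ Y) (U' := U.1) inf_le_left
      ((containsFj_dim X hU').trans U.2.2.symm)) (X.resLE hU₁ (U.2.2.trans Y₁.2.2.symm)) i' n' b
    rw [resLE_resLE] at e
    exact e.symm.trans ((congrArg _ hb).trans (map_zero _))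
  have eα := fjι_res (T := T) (M := M) (U := Y₁) (U' := fjIdx hY) hYle hd i' n' b
  by_cases hs : s.Nonempty
  · right
    have hr := hG.relCodim_pairZ hs
    obtain ⟨c, hc⟩ := exists_push_of_pull_j (pairDec X hG.le (hG.dimUY hU')) (i := i) (n := n)
      (i' := i') (n' := n') (T := T) (M := M)
      (by rw [show (pairDec X hG.le (hG.dimUY hU')).Z = pairZ X (U.1 ⊓ Y) Y from rfl, hr]; exact hi)
      (by rw [show (pairDec X hG.le (hG.dimUY hU')).Z = pairZ X (U.1 ⊓ Y) Y from rfl, hr]; exact hn)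
      h0
    exact ⟨U.1 ⊓ Y, Y, s, hG, hY, hU', hs, _, _, c, (congrArg _ hc).trans eα⟩
  · left
    have hUY := hG.eq_of_empty hs
    have : IsIso (X.resLE hG.le (hG.dimUY hU')).hom := by
      show IsIso (X.scheme.homOfLE hG.le)
      exact ⟨X.scheme.homOfLE hUY.ge, by simp, by simp⟩
    have h1 := (pull_bijective T M _ i' n').1 (h0.trans (map_zero _).symm)
    exact eα.symm.trans ((congrArg _ h1).trans (map_zero _))

lemma fjι_push_eq_zero (hG : Good X c U Y s) (hY : ContainsFj X c Y) (hs : s.Nonempty)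
    {i n i' n' : ℤ} {hi' : i' = i + 2 * relCodim (pairZ X U Y).scheme (X.res Y).scheme}
    {hn' : n' = n + relCodim (pairZ X U Y).scheme (X.res Y).scheme} (r : T.gp (pairZ X U Y) M i n) (hr : ∀ x, ptCls T M hG x i n r = 0) :
    ((T.fjι X c i' n' (fjIdx hY)).app M).hom
      ((T.push (pairι X U Y) M i n i' n' hi' hn').hom r) = 0 := by
  obtain ⟨Y', hle, hY', hG', hz⟩ := exists_shrink_zero T M hG hY r hr
  have hZ : WeilCoh.dim (pairZ X (U ⊓ Y') Y').scheme = WeilCoh.dim (pairZ X U Y).scheme := by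
    rw [hG'.dim_pairZ hs, hG.dim_pairZ hs]
  have hr' : relCodim (pairZ X (U ⊓ Y') Y').scheme (X.res Y').scheme =
      relCodim (pairZ X U Y).scheme (X.res Y).scheme := by
    rw [hG'.relCodim_pairZ hs, hG.relCodim_pairZ hs]
  have e := pull_push_pairMap X hle T M (hG'.dimY.trans hG.dimY.symm) hZ hi' hn'
    (hi'.trans (by rw [hr'])) (hn'.trans (by rw [hr'])) r
  rw [hz hZ] at e
  have e1 := fjι_res (T := T) (M := M) (U := fjIdx hY) (U' := fjIdx hY') hle
    (hG'.dimY.trans hG.dimY.symm) i' n' ((T.push (pairι X U Y) M i n i' n' hi' hn').hom r)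
  exact e1.symm.trans (((congrArg _ (e.trans (map_zero _)))).trans (map_zero _))

variable (T M)

/-- A push-forward from the complement is the sum of the push-forwards from the pieces. -/
lemma push_pairι_eq_sum (hG : Good X c U Y s) (hs : s.Nonempty) {i n i' n' : ℤ}
    (hi : i' = i + 2 * (c : ℤ)) (hn : n' = n + (c : ℤ)) (r : T.gp (pairZ X U Y) M i n) :
    (T.push (pairι X U Y) M i n i' n' (by rw [hG.relCodim_pairZ hs]; exact hi)
      (by rw [hG.relCodim_pairZ hs]; exact hn)).hom r =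
    ∑ x : s, (T.push (pieceι X x.1 Y) M i n i' n' (by rw [hG.relCodim_piece x]; exact hi)
      (by rw [hG.relCodim_piece x]; exact hn)).hom ((T.pull (hG.toZ x) M i n).hom r) := by
  conv_lhs => rw [← hG.isDisjointCover.sum_push_pull (T := T) (M := M) r, map_sum]
  refine Finset.sum_congr rfl fun x _ => ?_
  have : IsProper (hG.toZ x).hom := hG.isDisjointCover.isProper x
  exact push_push T M (f := (hG.toZ x).hom) (g := pairι X U Y) (fg := pieceι X x.1 Y)
    (hG.toZHom_ι x) _ _ _ _ _ _ _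

end Groth.Agent.BMLib
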