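import Groth.Agent.BMLib.Core

/-!
Residue and push-forward data computed on configurations, and the three exactness statements.
-/

set_option autoImplicit false
set_option linter.unusedSectionVars false

universe u

open AlgebraicGeometry CategoryTheory CategoryTheory.Limits Opposite TopologicalSpace DirectSum

namespace Groth.Agent.BMLib

open BMCoh

variable {V : ObjectProperty Scheme.{u}} [IsConstructible V] {R : Type u} [CommRing R]
  {A : Coefs R} {T : PreTheory V R A} {X : Obj V} {M : A.Cat}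
  {c j : ℕ} {U Y : X.scheme.Opens} {s : Finset X.scheme}

/-- A point of a configuration, as a point of the given codimension. -/
abbrev Good.pt (hG : Good X c U Y s) (x : s) : X.cdPt c := ⟨x.1, hG.codim_eq x.1 x.2⟩

lemma Good.resDec_hi (hG : Good X (j + 1) U Y s) (hs : s.Nonempty) (hU : ContainsFj X j U)
    {i i' : ℤ} (hi : i' = i + 1 - 2 * ((j : ℤ) + 1)) :
    i' = i + 1 - 2 * (pairDec X hG.le (hG.dimUY hU)).codim := by
  rw [hG.hcodim hs hG.le _ rfl]; exact_mod_cast hi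

lemma Good.resDec_hn (hG : Good X (j + 1) U Y s) (hs : s.Nonempty) (hU : ContainsFj X j U)
    {n n' : ℤ} (hn : n' = n - ((j : ℤ) + 1)) :
    n' = n - (pairDec X hG.le (hG.dimUY hU)).codim := by
  rw [hG.hcodim hs hG.le _ rfl]; exact_mod_cast hn

lemma cpt_res (Q : T.ResData X j) (hG : Good X (j + 1) U Y s) (hU : ContainsFj X j U)
    (x : s) {i n i' n' : ℤ} (hi : i' = i + 1 - 2 * ((j : ℤ) + 1)) (hn : n' = n - ((j : ℤ) + 1))
    (hiD hnD) (a : T.gp (X.res U) M i n) :
    (Q.cpt (hG.pt x) M i n i' n' hi hn).hom (((T.fjι X j i n (fjIdx hU)).app M).hom a) =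
      ptCls T M hG x i' n'
        ((T.res (pairDec X hG.le (hG.dimUY hU)) M i n i' n' hiD hnD).hom a) := by
  have h := Q.cpt_spec (hG.pt x) M i n i' n' hi hn (X.resι Y hG.dimY)
    (pairDec X hG.le (hG.dimUY hU)) (pieceIdx X x.1 (hG.mem x.1 x.2)) (hG.toZ x)
    (by
      show hG.toZHom x ≫ pairι X U Y ≫ Y.ι = _
      rw [Good.toZHom_ι_assoc, morphismRestrict_ι])
    (fjIdx hU) (𝟙 _) (by
      show 𝟙 _ ≫ X.scheme.homOfLE hG.le ≫ Y.ι = U.ι
      rw [Category.id_comp, Scheme.homOfLE_ι]) hiD hnD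
  have h' := congr($(h).hom a)
  have e : (T.pull (𝟙 (X.res U)) M i n).hom a = a := pull_id T M i n a
  refine Eq.trans ?_ h'
  exact (congrArg (fun b => (Q.cpt (hG.pt x) M i n i' n' hi hn).hom
    (((T.fjι X j i n (fjIdx hU)).app M).hom b)) e).symm

/-- Residues vanish at the points inside the domain of definition of a class. -/
lemma cpt_out (Q : T.ResData X j) (hU : ContainsFj X j U) (x : X.cdPt (j + 1)) (hx : x.1 ∈ U)
    {i n i' n' : ℤ} (hi : i' = i + 1 - 2 * ((j : ℤ) + 1)) (hn : n' = n - ((j : ℤ) + 1))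
    (a : T.gp (X.res U) M i n) :
    (Q.cpt x M i n i' n' hi hn).hom (((T.fjι X j i n (fjIdx hU)).app M).hom a) = 0 := by
  classical
  let U₀ : X.scheme.Opens := U ⊓ ⟨(closure {x.1})ᶜ, isClosed_closure.isOpen_compl⟩
  have hU₀ : ContainsFj X j U₀ := fun z hz => ⟨hU z hz, fun hzx => by
    have h1 := codim_le_of_specializes X (specializes_iff_mem_closure.2 hzx)
    have h2 := x.2
    omega⟩
  have hG : Good X (j + 1) U₀ U {x.1} :=
    { le := inf_le_left
      dimY := containsFj_dim X hU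
      mem := fun y hy => by rw [Finset.mem_singleton.1 hy]; exact hx
      notMem := fun y hy h => by
        rw [Finset.mem_singleton.1 hy] at h
        exact h.2 (subset_closure rfl)
      codim_eq := fun y hy => by rw [Finset.mem_singleton.1 hy]; exact x.2
      cover := fun z hz hz0 => ⟨x.1, Finset.mem_singleton_self _,
        specializes_iff_mem_closure.2 (by_contra fun h => hz0 ⟨hz, h⟩)⟩
      uniq := fun y hy y' hy' _ _ _ _ => (Finset.mem_singleton.1 hy).trans
        (Finset.mem_singleton.1 hy').symm }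
  have hs : ({x.1} : Finset X.scheme).Nonempty := Finset.singleton_nonempty _
  have e := fjι_res (T := T) (M := M) (U := fjIdx hU) (U' := fjIdx hU₀) inf_le_left
    ((containsFj_dim X hU₀).trans (containsFj_dim X hU).symm) i n a
  rw [← e]
  have h0 := res_pull_j (pairDec X hG.le (hG.dimUY hU₀)) (T := T) (M := M)
    (hG.resDec_hi hs hU₀ hi) (hG.resDec_hn hs hU₀ hn) a
  refine (cpt_res Q hG hU₀ ⟨x.1, Finset.mem_singleton_self _⟩ hi hn (hG.resDec_hi hs hU₀ hi)
    (hG.resDec_hn hs hU₀ hn) _).trans ?_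
  unfold ptCls
  rw [show (T.res (pairDec X hG.le (hG.dimUY hU₀)) M i n i' n' _ _).hom
    ((T.pull (X.resLE (U := U₀) (U' := U) inf_le_left
      ((containsFj_dim X hU₀).trans (containsFj_dim X hU).symm)) M i n).hom a) = 0 from h0]
  exact (congrArg _ (map_zero _)).trans (map_zero _)

lemma cpt_push (P : T.PushData X c) (hG : Good X c U Y s) (hY : ContainsFj X c Y) (x : s)
    {i n i' n' : ℤ} (hi : i' = i + 2 * (c : ℤ)) (hn : n' = n + (c : ℤ))
    (b : T.gp ((X.ptSub x.1).res (piece X x.1 Y)) M i n) :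
    (P.cpt (hG.pt x) M i n i' n' hi hn).hom
        (((T.ptι X x.1 i n (pieceIdx X x.1 (hG.mem x.1 x.2))).app M).hom b) =
      ((T.fjι X c i' n' (fjIdx hY)).app M).hom
        ((T.push (pieceι X x.1 Y) M i n i' n' (by rw [hG.relCodim_piece x]; exact hi)
          (by rw [hG.relCodim_piece x]; exact hn)).hom b) :=
  congr($(P.cpt_spec (hG.pt x) M i n i' n' hi hn (fjIdx hY) (pieceIdx X x.1 (hG.mem x.1 x.2))
    (pieceι X x.1 Y) (morphismRestrict_ι _ _) _ _).hom b)

lemma fjι_push_eq_sum (P : T.PushData X c) (hG : Good X c U Y s) (hY : ContainsFj X c Y)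
    (hs : s.Nonempty) {i n i' n' : ℤ} (hi : i' = i + 2 * (c : ℤ)) (hn : n' = n + (c : ℤ))
    (hi' hn') (r : T.gp (pairZ X U Y) M i n) :
    ((T.fjι X c i' n' (fjIdx hY)).app M).hom
        ((T.push (pairι X U Y) M i n i' n' hi' hn').hom r) =
      ∑ x : s, (P.cpt (hG.pt x) M i n i' n' hi hn).hom (ptCls T M hG x i n r) := by
  refine (congrArg _ (push_pairι_eq_sum T M hG hs hi hn r)).trans ?_
  refine (map_sum _ _ _).trans (Finset.sum_congr rfl fun x _ => ?_)
  exact (cpt_push P hG hY x hi hn _).symm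

open Classical in
/-- An element of a sum over points supported on a configuration. -/
lemma ptSum_eq_sum (hG : Good X c U Y s) {i n : ℤ} (b : T.ptSum X c M i n)
    (hb : ∀ x : X.cdPt c, x.1 ∉ s → b x = 0) :
    b = ∑ x : s, DirectSum.lof R (X.cdPt c) (fun y : X.cdPt c => T.ptGp X y.1 M i n) (hG.pt x)
      (b (hG.pt x)) := by
  refine DFinsupp.ext fun y => ?_
  erw [DFinsupp.finsetSum_apply]
  by_cases hy : y.1 ∈ s
  · rw [Finset.sum_eq_single ⟨y.1, hy⟩]
    · rw [DirectSum.lof_eq_of]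
      exact (DFinsupp.single_eq_same (β := fun y : X.cdPt c => T.ptGp X y.1 M i n) (i := y)
        (b := b y)).symm
    · intro x _ hx
      rw [DirectSum.lof_eq_of]
      exact DFinsupp.single_eq_of_ne (fun h => hx (Subtype.ext (congrArg Subtype.val h).symm))
    · exact fun h => absurd (Finset.mem_univ _) h
  · rw [hb y hy, Finset.sum_eq_zero]
    intro x _
    rw [DirectSum.lof_eq_of]
    exact DFinsupp.single_eq_of_ne (fun h => hy (congrArg Subtype.val h ▸ x.2))

open Classical in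
lemma tot_push (P : T.PushData X c) (hG : Good X c U Y s) (hY : ContainsFj X c Y)
    (hs : s.Nonempty) {i n i' n' : ℤ} (hi : i' = i + 2 * (c : ℤ)) (hn : n' = n + (c : ℤ))
    (hi' hn') (b : T.ptSum X c M i n) (hb : ∀ x : X.cdPt c, x.1 ∉ s → b x = 0)
    (r : T.gp (pairZ X U Y) M i n) (hr : ∀ x : s, ptCls T M hG x i n r = b (hG.pt x)) :
    (P.tot M i n i' n' hi hn).hom b =
      ((T.fjι X c i' n' (fjIdx hY)).app M).hom
        ((T.push (pairι X U Y) M i n i' n' hi' hn').hom r) := by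
  rw [fjι_push_eq_sum P hG hY hs hi hn, ptSum_eq_sum hG b hb, map_sum]
  refine Finset.sum_congr rfl fun x _ => ?_
  rw [hr x]
  exact P.tot_lof M i n i' n' hi hn (hG.pt x) _

lemma exists_shrink_single (X : Obj V) (c : ℕ) (Y : X.scheme.Opens) (hY : ContainsFj X c Y)
    (x : X.scheme) (hx : WeilCoh.codim X.scheme x = c) (W : (X.ptSub x).scheme.Opens)
    (hW : gen X x ∈ W) :
    ∃ Y' : X.scheme.Opens, Y' ≤ Y ∧ ContainsFj X c Y' ∧ piece X x Y' ≤ W := by
  let C : Set X.scheme := X.ptSubι x '' (↑W)ᶜ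
  have hC : IsClosed C := (X.ptSubι x).isClosedEmbedding.isClosedMap _ W.isOpen.isClosed_compl
  refine ⟨Y ⊓ ⟨Cᶜ, hC.isOpen_compl⟩, inf_le_left, fun z hz => ⟨hY z hz, ?_⟩, fun p hp => ?_⟩
  · rintro ⟨p, hp, rfl⟩
    have hxp : x ⤳ X.ptSubι x p := by
      rw [specializes_iff_mem_closure, ← range_ptSubι X x]; exact ⟨p, rfl⟩
    exact hp (eq_gen X x (eq_of_specializes_of_codim_le X hxp (hz.trans_eq hx.symm)).symm ▸ hW)
  · by_contra hpW
    exact hp.2 ⟨p, hpW, rfl⟩

section exact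

variable (T X M) (j : ℕ) {i n i' n' : ℤ}

theorem exact_fjRes_resTot (Q : T.ResData X j) (hi : i' = i + 1 - 2 * ((j : ℤ) + 1))
    (hn : n' = n - ((j : ℤ) + 1)) :
    Function.Exact ((T.fjRes X (Nat.le_succ j) i n).app M).hom (Q.tot M i n i' n' hi hn).hom := by
  intro a
  constructor
  · intro ha
    obtain ⟨U, b, rfl⟩ := exists_rep T M i n a
    obtain ⟨Y, s, -, hY, hG, -⟩ := exists_good X (j + 1) U.1 ⊤
      (fun z hz => U.2.1 z (by omega)) (fun _ _ => trivial)
    have hU' : ContainsFj X j (U.1 ⊓ Y) :=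
      containsFj_inf U.2.1 (containsFj_mono X (Nat.le_succ j) _ hY)
    have e := fjι_res (T := T) (M := M) (U := U) (U' := fjIdx hU') inf_le_left
      ((containsFj_dim X hU').trans U.2.2.symm) i n b
    rw [← e]
    refine LinearMap.mem_range.1 (mem_range_fjRes hG rfl hU' hY hi hn _ fun x hiD hnD => ?_)
    rw [← cpt_res Q hG hU' x hi hn hiD hnD]
    erw [e]
    rw [← Q.tot_apply, ha]
    rfl
  · rintro ⟨β, rfl⟩
    obtain ⟨Y, b, rfl⟩ := exists_rep T M i n β
    rw [fjRes_ι]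
    exact DFinsupp.ext fun x =>
      cpt_out Q (containsFj_mono X (Nat.le_succ j) _ Y.2.1) x (Y.2.1 x.1 x.2.le) hi hn b

theorem exact_pushTot_fjRes (P : T.PushData X (j + 1)) (hi : i' = i + 2 * ((j + 1 : ℕ) : ℤ))
    (hn : n' = n + ((j + 1 : ℕ) : ℤ)) :
    Function.Exact (P.tot M i n i' n' hi hn).hom ((T.fjRes X (Nat.le_succ j) i' n').app M).hom := by
  classical
  intro α
  constructor
  · intro h
    rcases exists_push_of_fjRes_eq_zero (i := i) (n := n) hi hn α h with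
      rfl | ⟨U, Y, s, hG, hY, -, hs, hi', hn', r, rfl⟩
    · exact ⟨0, map_zero _⟩
    · refine ⟨∑ x : s, DirectSum.lof R (X.cdPt (j + 1))
        (fun y : X.cdPt (j + 1) => T.ptGp X y.1 M i n) (hG.pt x) (ptCls T M hG x i n r), ?_⟩
      rw [map_sum, fjι_push_eq_sum P hG hY hs hi hn hi' hn']
      exact Finset.sum_congr rfl fun x _ => P.tot_lof M i n i' n' hi hn (hG.pt x) _
  · rintro ⟨b, rfl⟩
    induction b using DirectSum.induction_on with
    | zero => simp
    | add b b' hb hb' => rw [map_add, map_add, hb, hb', add_zero]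
    | of x a =>
      rw [← DirectSum.lof_eq_of R]
      erw [P.tot_lof M i n i' n' hi hn x a]
      obtain ⟨W, w, rfl⟩ := exists_rep T M i n a
      let U₀ : X.scheme.Opens := ⟨(closure {x.1})ᶜ, isClosed_closure.isOpen_compl⟩
      have hlt : ∀ z, WeilCoh.codim X.scheme z < j + 1 → z ∈ U₀ := fun z hz hzx => by
        have h1 := codim_le_of_specializes X (specializes_iff_mem_closure.2 hzx)
        have h2 := x.2
        omega
      obtain ⟨Y, s, -, hY, hG, hs'⟩ := exists_good X (j + 1) U₀ ⊤ hlt (fun _ _ => trivial)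
      have hxs : x.1 ∈ s := (hs' x.1).2 ⟨x.2, fun h => h (subset_closure rfl)⟩
      have hs1 : ∀ z ∈ s, z = x.1 := fun z hz => by
        have h1 : x.1 ⤳ z := specializes_iff_mem_closure.2 (not_not.1 ((hs' z).1 hz).2)
        exact (eq_of_specializes_of_codim_le X h1 (((hs' z).1 hz).1.le.trans x.2.ge)).symm
      obtain ⟨Y', hle, hY', hp'⟩ := exists_shrink_single X (j + 1) Y hY x.1 x.2 W.1
        (gen_mem X x.1 W.2.1)
      have hG' : Good X (j + 1) (U₀ ⊓ Y ⊓ Y') Y' s := hG.restrict hle (containsFj_dim X hY')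
        fun z hz => hY' z (hG.codim_eq z hz).le
      have hU' : ContainsFj X j (U₀ ⊓ Y ⊓ Y') := fun z hz =>
        ⟨⟨hlt z (by omega), hY z (by omega)⟩, hY' z (by omega)⟩
      have hdp : WeilCoh.dim (piece X x.1 Y' : Scheme.{u}) = WeilCoh.dim (W.1 : Scheme.{u}) :=
        (dim_open_ptSub X x.1 _ ⟨_, gen_mem_piece X x.1 (hG'.mem _ hxs)⟩).trans W.2.2.symm
      have ew := fjι_res (T := T) (M := M) (U := W)
        (U' := pieceIdx X x.1 (hG'.mem _ hxs)) hp' hdp i n w
      rw [← ew]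
      let w' := (T.pull ((X.ptSub x.1).resLE hp' hdp) M i n).hom w
      let r := (IsDisjointCover.pushMem T M hG'.isDisjointCover ⟨x.1, hxs⟩ i n).hom w'
      have hp2 : (T.push (pieceι X x.1 Y') M i n i' n'
          (by rw [hG'.relCodim_piece ⟨x.1, hxs⟩]; exact hi)
          (by rw [hG'.relCodim_piece ⟨x.1, hxs⟩]; exact hn)).hom w' =
          (T.push (pairι X (U₀ ⊓ Y ⊓ Y') Y') M i n i' n'
            (by rw [hG'.relCodim_pairZ ⟨x.1, hxs⟩]; exact hi)
            (by rw [hG'.relCodim_pairZ ⟨x.1, hxs⟩]; exact hn)).hom r := by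
        have : IsProper (hG'.toZ ⟨x.1, hxs⟩).hom := hG'.isDisjointCover.isProper _
        exact (push_push T M (f := (hG'.toZ ⟨x.1, hxs⟩).hom)
          (g := pairι X (U₀ ⊓ Y ⊓ Y') Y') (fg := pieceι X x.1 Y')
          (hG'.toZHom_ι ⟨x.1, hxs⟩) _ _ _ _ _ _ w').symm
      refine (congrArg _ (cpt_push P hG' hY' ⟨x.1, hxs⟩ hi hn w')).trans ?_
      rw [hp2, fjRes_ι]
      have ej := fjι_res (T := T) (M := M)
        (U := fjIdx (containsFj_mono X (Nat.le_succ j) _ hY')) (U' := fjIdx hU') inf_le_right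
        (hG'.dimUY hU') i' n' ((T.push (pairι X (U₀ ⊓ Y ⊓ Y') Y') M i n i' n'
            (by rw [hG'.relCodim_pairZ ⟨x.1, hxs⟩]; exact hi)
            (by rw [hG'.relCodim_pairZ ⟨x.1, hxs⟩]; exact hn)).hom r)
      refine ej.symm.trans ?_
      exact (congrArg _ (pull_j_push (pairDec X hG'.le (hG'.dimUY hU')) _ _ r)).trans (map_zero _)

theorem exact_resTot_pushTot (Q : T.ResData X j) (P : T.PushData X (j + 1))
    (hi : i' = i + 1 - 2 * ((j : ℤ) + 1)) (hn : n' = n - ((j : ℤ) + 1))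
    (hi2 : i + 1 = i' + 2 * ((j + 1 : ℕ) : ℤ)) (hn2 : n = n' + ((j + 1 : ℕ) : ℤ)) :
    Function.Exact (Q.tot M i n i' n' hi hn).hom (P.tot M i' n' (i + 1) n hi2 hn2).hom := by
  classical
  intro b
  constructor
  · intro hb
    let S : Finset X.scheme := (DFinsupp.support b).image Subtype.val
    have hScd : ∀ z ∈ S, WeilCoh.codim X.scheme z = j + 1 := fun z hz => by
      obtain ⟨x, -, rfl⟩ := Finset.mem_image.1 hz
      exact x.2
    let U₀ : X.scheme.Opens := ⟨(⋃ z ∈ (S : Set X.scheme), closure {z})ᶜ,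
      (S.finite_toSet.isClosed_biUnion fun _ _ => isClosed_closure).isOpen_compl⟩
    have hlt : ∀ z, WeilCoh.codim X.scheme z < j + 1 → z ∈ U₀ := fun z hz hzx => by
      obtain ⟨w, hw, hwz⟩ := Set.mem_iUnion₂.1 hzx
      have h1 := codim_le_of_specializes X (specializes_iff_mem_closure.2 hwz)
      have h2 := hScd w hw
      omega
    obtain ⟨Y, s, -, hY, hG, hs'⟩ := exists_good X (j + 1) U₀ ⊤ hlt (fun _ _ => trivial)
    have hsupp : ∀ x : X.cdPt (j + 1), x.1 ∉ s → b x = 0 := fun x hx => by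
      by_contra h
      refine hx ((hs' x.1).2 ⟨x.2, fun hxU => hxU (Set.mem_biUnion ?_ (subset_closure rfl))⟩)
      exact Finset.mem_coe.2 (Finset.mem_image.2 ⟨x, DFinsupp.mem_support_iff.2 h, rfl⟩)
    by_cases hs : s.Nonempty
    swap
    · exact ⟨0, (map_zero _).trans (DFinsupp.ext fun x =>
        (hsupp x fun h => hs ⟨x.1, h⟩).symm)⟩
    choose W w hw using fun x : s => exists_rep T M i' n' (b (hG.pt x))
    obtain ⟨Y', hle, hY', hp⟩ := exists_shrink X (j + 1) Y hY s hG.codim_eq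
      (fun x => (W x).1) (fun x => gen_mem X x.1 (W x).2.1)
    have hG' : Good X (j + 1) (U₀ ⊓ Y ⊓ Y') Y' s := hG.restrict hle (containsFj_dim X hY')
      fun z hz => hY' z (hG.codim_eq z hz).le
    have hU' : ContainsFj X j (U₀ ⊓ Y ⊓ Y') := fun z hz =>
      ⟨⟨hlt z (by omega), hY z (by omega)⟩, hY' z (by omega)⟩
    have hd : ∀ x : s, WeilCoh.dim (piece X x.1 Y' : Scheme.{u}) =
        WeilCoh.dim ((W x).1 : Scheme.{u}) := fun x =>
      (dim_open_ptSub X x.1 _ ⟨_, gen_mem_piece X x.1 (hG'.mem x.1 x.2)⟩).trans (W x).2.2.symm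
    let w' : ∀ x : s, T.gp ((X.ptSub x.1).res (piece X x.1 Y')) M i' n' :=
      fun x => (T.pull ((X.ptSub x.1).resLE (hp x) (hd x)) M i' n').hom (w x)
    let r := ∑ x : s, (IsDisjointCover.pushMem T M hG'.isDisjointCover x i' n').hom (w' x)
    have hr : ∀ x : s, ptCls T M hG' x i' n' r = b (hG'.pt x) := fun x => by
      show ((T.ptι X x.1 i' n' (pieceIdx X x.1 (hG'.mem x.1 x.2))).app M).hom
        ((T.pull (hG'.toZ x) M i' n').hom r) = _
      rw [hG'.isDisjointCover.pull_sum x w']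
      exact (fjι_res (T := T) (M := M) (U := W x)
        (U' := pieceIdx X x.1 (hG'.mem x.1 x.2)) (hp x) (hd x) i' n' (w x)).trans (hw x)
    have hpu := (tot_push P hG' hY' hs hi2 hn2
      (by rw [hG'.relCodim_pairZ hs]; exact hi2) (by rw [hG'.relCodim_pairZ hs]; exact hn2)
      b hsupp r hr).symm.trans hb
    obtain ⟨Y'', hle'', h0⟩ := ι_eq_zero T (fjIdx hY') M (i + 1) n _ hpu
    have hG'' : Good X (j + 1) (U₀ ⊓ Y ⊓ Y' ⊓ Y''.1) Y''.1 s :=
      hG'.restrict hle'' Y''.2.2 fun z hz => Y''.2.1 z (hG'.codim_eq z hz).le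
    have hU'' : ContainsFj X j (U₀ ⊓ Y ⊓ Y' ⊓ Y''.1) :=
      containsFj_inf hU' (containsFj_mono X (Nat.le_succ j) _ Y''.2.1)
    have hZ : WeilCoh.dim (pairZ X (U₀ ⊓ Y ⊓ Y' ⊓ Y''.1) Y''.1).scheme =
        WeilCoh.dim (pairZ X (U₀ ⊓ Y ⊓ Y') Y').scheme := by
      rw [hG''.dim_pairZ hs, hG'.dim_pairZ hs]
    let r'' := (T.pull (pairMap X hle'' hZ) M i' n').hom r
    have hi'' : i + 1 = i' + 2 * relCodim (pairZ X (U₀ ⊓ Y ⊓ Y' ⊓ Y''.1) Y''.1).scheme
        (X.res Y''.1).scheme := by rw [hG''.relCodim_pairZ hs]; exact hi2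
    have hn'' : n = n' + relCodim (pairZ X (U₀ ⊓ Y ⊓ Y' ⊓ Y''.1) Y''.1).scheme
        (X.res Y''.1).scheme := by rw [hG''.relCodim_pairZ hs]; exact hn2
    have hp0 : (T.push (pairι X (U₀ ⊓ Y ⊓ Y' ⊓ Y''.1) Y''.1) M i' n' (i + 1) n hi'' hn'').hom r''
        = 0 :=
      (pull_push_pairMap X hle'' T M (hG''.dimY.trans hG'.dimY.symm) hZ _ _ hi'' hn'' r).symm.trans
        h0
    obtain ⟨a, ha⟩ := exists_res_of_push (pairDec X hG''.le (hG''.dimUY hU'')) rfl
      (hG''.resDec_hi hs hU'' hi) (hG''.resDec_hn hs hU'' hn) hi'' hn'' hp0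
    refine ⟨((T.fjι X j i n (fjIdx hU'')).app M).hom a, DFinsupp.ext fun x => ?_⟩
    rw [Q.tot_apply]
    by_cases hx : x.1 ∈ s
    · have e1 := cpt_res Q hG'' hU'' ⟨x.1, hx⟩ hi hn (hG''.resDec_hi hs hU'' hi)
        (hG''.resDec_hn hs hU'' hn) a
      rw [ha] at e1
      refine e1.trans (Eq.trans ?_ (hr ⟨x.1, hx⟩))
      have hd' : WeilCoh.dim (piece X x.1 Y''.1 : Scheme.{u}) =
          WeilCoh.dim (piece X x.1 Y' : Scheme.{u}) :=
        (dim_piece X x.1 (hG''.mem _ hx)).trans (dim_piece X x.1 (hG'.mem _ hx)).symm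
      show ((T.ptι X x.1 i' n' (pieceIdx X x.1 (hG''.mem _ hx))).app M).hom
        ((T.pull (hG''.toZ ⟨x.1, hx⟩) M i' n').hom r'') = _
      rw [pull_pull, hG'.toZ_pairMap ⟨x.1, hx⟩ hle'' hG'' hZ hd', ← pull_pull]
      exact fjι_res (T := T) (M := M) (U := pieceIdx X x.1 (hG'.mem _ hx))
        (U' := pieceIdx X x.1 (hG''.mem _ hx)) ((X.ptSubι x.1).preimage_mono hle'') hd' i' n' _
    · rw [hsupp x hx]
      refine cpt_out Q hU'' x ?_ hi hn a
      have h4 : x.1 ∈ Y''.1 := Y''.2.1 x.1 x.2.le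
      by_contra h
      obtain ⟨z, hz, hzx⟩ := hG''.cover x.1 h4 h
      exact hx (eq_of_specializes_of_codim_le X hzx (x.2.trans (hG''.codim_eq z hz).symm).le ▸ hz)
  · rintro ⟨α, rfl⟩
    obtain ⟨U, a, rfl⟩ := exists_rep T M i n α
    obtain ⟨Y, s, -, hY, hG, hs'⟩ := exists_good X (j + 1) U.1 ⊤
      (fun z hz => U.2.1 z (by omega)) (fun _ _ => trivial)
    have hU' : ContainsFj X j (U.1 ⊓ Y) :=
      containsFj_inf U.2.1 (containsFj_mono X (Nat.le_succ j) _ hY)
    have e := fjι_res (T := T) (M := M) (U := U) (U' := fjIdx hU') inf_le_left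
      ((containsFj_dim X hU').trans U.2.2.symm) i n a
    rw [← e]
    let a' := (T.pull (X.resLE (U := U.1 ⊓ Y) (U' := U.1) inf_le_left
      ((containsFj_dim X hU').trans U.2.2.symm)) M i n).hom a
    have hsupp : ∀ x : X.cdPt (j + 1), x.1 ∉ s →
        ((Q.tot M i n i' n' hi hn).hom (((T.fjι X j i n (fjIdx hU')).app M).hom a')) x = 0 :=
      fun x hx => by
      rw [Q.tot_apply]
      refine cpt_out Q hU' x ?_ hi hn a'
      by_contra h
      refine hx ((hs' x.1).2 ⟨x.2, fun hxU => h ⟨hxU, hY x.1 x.2.le⟩⟩)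
    by_cases hs : s.Nonempty
    · have h1 := tot_push P hG hY hs hi2 hn2
        (by rw [hG.relCodim_pairZ hs]; exact hi2) (by rw [hG.relCodim_pairZ hs]; exact hn2)
        _ hsupp ((T.res (pairDec X hG.le (hG.dimUY hU')) M i n i' n' (hG.resDec_hi hs hU' hi)
          (hG.resDec_hn hs hU' hn)).hom a') (fun x => by
            rw [Q.tot_apply]
            exact (cpt_res Q hG hU' x hi hn _ _ a').symm)
      refine h1.trans ?_
      exact (congrArg _ (push_res (pairDec X hG.le (hG.dimUY hU')) rfl _ _ _ _ a')).trans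
        (map_zero _)
    · have : (Q.tot M i n i' n' hi hn).hom (((T.fjι X j i n (fjIdx hU')).app M).hom a') = 0 :=
        DFinsupp.ext fun x => hsupp x fun h => hs ⟨x.1, h⟩
      exact (congrArg _ this).trans (map_zero _)

end exact

end Groth.Agent.BMLib
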