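import Groth.Agent.BMLib.PtPush

/-!
Residues of a push-forward along a finite morphism.
-/

set_option autoImplicit false
set_option linter.unusedSectionVars false

universe u

open AlgebraicGeometry CategoryTheory CategoryTheory.Limits Opposite TopologicalSpace DirectSum

namespace Groth.Agent.BMLib

open BMCoh

variable {V : ObjectProperty Scheme.{u}} [IsConstructible V] {R : Type u} [CommRing R]
  {A : Coefs R} {X Y : Obj V} {φ : Y.scheme ⟶ X.scheme} [IsProper φ] [IsIntegralHom φ]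

lemma pdim_map (φ : Y.scheme ⟶ X.scheme) [IsProper φ] [IsIntegralHom φ] (y : Y.scheme) :
    WeilCoh.pdim X.scheme (φ y) = WeilCoh.pdim Y.scheme y :=
  le_antisymm (pdim_le_of_isProper (rfl : φ y = φ y)) (pdim_le_of_isIntegralHom (rfl : φ y = φ y))

lemma codim_map {q : ℕ} (hd : WeilCoh.dim Y.scheme + q = WeilCoh.dim X.scheme) (y : Y.scheme) :
    WeilCoh.codim X.scheme (φ y) = WeilCoh.codim Y.scheme y + q := by
  have := pdim_le_dim Y.mem y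
  simp only [WeilCoh.codim, pdim_map]
  omega

lemma dim_eq_of_surjective {S S' : Obj V} (k : S.scheme ⟶ S'.scheme) [IsClosedImmersion k]
    (hk : Function.Surjective k) : WeilCoh.dim S.scheme = WeilCoh.dim S'.scheme := by
  rcases isEmpty_or_nonempty S.scheme with he | hne
  · have : IsEmpty S'.scheme := ⟨fun z => (hk z).elim fun p _ => he.false p⟩
    simp only [WeilCoh.dim, WeilCoh.natDim, topologicalKrullDim]
    rw [Order.krullDim_eq_bot_iff.2 ⟨fun s => s.isIrreducible.nonempty.elim fun p _ => he.false p⟩,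
      Order.krullDim_eq_bot_iff.2 ⟨fun s => s.isIrreducible.nonempty.elim fun p _ => this.false p⟩]
  · refine (dim_eq_of S'.mem (fun z => ?_) ?_).symm
    · obtain ⟨p, rfl⟩ := hk z
      rw [← pdim_closedImmersion k p]
      exact pdim_le_dim S.mem p
    · obtain ⟨p, hp⟩ := exists_pdim_eq_dim S.mem
      exact ⟨k p, by rw [← pdim_closedImmersion k p, hp]⟩

variable {U Y₀ : X.scheme.Opens}

lemma range_pairι_comp :
    Set.range (pairι Y (φ ⁻¹ᵁ U) (φ ⁻¹ᵁ Y₀) ≫ φ ∣_ Y₀) ⊆ Set.range (pairι X U Y₀) := by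
  rintro _ ⟨z, rfl⟩
  rw [range_pairι, Set.mem_preimage, ← Scheme.Hom.comp_apply, Category.assoc,
    morphismRestrict_ι]
  exact pairι_notMem Y z

variable {s : Finset X.scheme} {sY : Finset Y.scheme} {q : ℕ}

lemma range_pieceι_comp {y : Y.scheme} {x : X.scheme} (h : φ y = x) :
    Set.range (pieceι Y y (φ ⁻¹ᵁ Y₀) ≫ φ ∣_ Y₀) ⊆ Set.range (pieceι X x Y₀) := by
  rintro _ ⟨p, rfl⟩
  refine exists_pieceι_eq X x _ ?_
  rw [← Scheme.Hom.comp_apply, Category.assoc, morphismRestrict_ι]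
  exact h ▸ (specializes_pieceι Y y p).map φ.continuous

variable {T : PreTheory V R A} {M : A.Cat}

theorem resTot_push (hred : ∀ (S : Obj V) (D D'' : Decomp S) (gU : D''.U ⟶ D.U)
      (k : D''.Z.scheme ⟶ D.Z.scheme) [IsClosedImmersion k] [AlgebraicGeometry.Surjective k],
      gU ≫ D.j = D''.j → k ≫ D.i = D''.i →
      ∀ (M : A.Cat) (i n i' n' : ℤ) (hi : i' = i + 1 - 2 * D.codim) (hn : n' = n - D.codim)
        (hi'' : i' = i + 1 - 2 * D''.codim) (hn'' : n' = n - D''.codim)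
        (hk : i' = i' + 2 * relCodim D''.Z.scheme D.Z.scheme)
        (hk' : n' = n' + relCodim D''.Z.scheme D.Z.scheme),
      T.pull gU M i n ≫ T.res D'' M i n i' n' hi'' hn'' ≫ T.push k M i' n' i' n' hk hk' =
        T.res D M i n i' n' hi hn)
    (hd : WeilCoh.dim Y.scheme + q = WeilCoh.dim X.scheme)
    (Q : T.ResData X q) (Q' : T.ResData Y 0)
    (t : Y.cdPt 1 → X.cdPt (q + 1)) (F : ∀ y : Y.cdPt 1, T.PtPush φ y.1 (t y).1)
    (hG : Good X (q + 1) U Y₀ s) (hU : ContainsFj X q U) (hY₀ : ContainsFj X (q + 1) Y₀)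
    (hG' : Good Y 1 (φ ⁻¹ᵁ U) (φ ⁻¹ᵁ Y₀) sY) (hU' : ContainsFj Y 0 (φ ⁻¹ᵁ U))
    (hsurj : ∀ x ∈ s, ∃ y, φ y = x)
    {i n i₁ n₁ i₂ n₂ : ℤ} (h1 : i₁ = i + 2 * (q : ℤ)) (h1' : n₁ = n + (q : ℤ))
    (h2 : i₂ = i₁ + 1 - 2 * ((q : ℤ) + 1)) (h2' : n₂ = n₁ - ((q : ℤ) + 1))
    (h4 : i₂ = i + 1 - 2 * (((0 : ℕ) : ℤ) + 1)) (h4' : n₂ = n - (((0 : ℕ) : ℤ) + 1))
    (hi₁ hn₁) (b : T.gp (Y.res (φ ⁻¹ᵁ U)) M i n) :
    (Q.tot M i₁ n₁ i₂ n₂ h2 h2').hom (((T.fjι X q i₁ n₁ (fjIdx hU)).app M).hom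
        ((T.push (X := Y.res (φ ⁻¹ᵁ U)) (Y := X.res U) (φ ∣_ U) M i n i₁ n₁ hi₁ hn₁).hom b)) =
      (PreTheory.PtPush.famTot t F M i₂ n₂).hom
        ((Q'.tot M i n i₂ n₂ h4 h4').hom (((T.fjι Y 0 i n (fjIdx hU')).app M).hom b)) := by
  classical
  set v := (T.push (X := Y.res (φ ⁻¹ᵁ U)) (Y := X.res U) (φ ∣_ U) M i n i₁ n₁ hi₁ hn₁).hom b
  have hmemX : ∀ y : sY, φ y.1 ∈ s := fun y => by
    obtain ⟨x, hx, hxy⟩ := hG.cover (φ y.1) (hG'.mem y.1 y.2) (hG'.notMem y.1 y.2)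
    have := eq_of_specializes_of_codim_le X hxy (by
      rw [codim_map hd, hG'.codim_eq y.1 y.2, hG.codim_eq x hx]; omega)
    exact this ▸ hx
  have hsuppX : ∀ x : X.cdPt (q + 1), x.1 ∉ s →
      (Q.tot M i₁ n₁ i₂ n₂ h2 h2').hom (((T.fjι X q i₁ n₁ (fjIdx hU)).app M).hom v) x = 0 :=
    fun x hx => by
      rw [PreTheory.ResData.tot_apply]
      refine cpt_out Q hU x (by_contra fun h => ?_) h2 h2' v
      obtain ⟨z, hz, hzx⟩ := hG.cover x.1 (hY₀ x.1 x.2.le) h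
      exact hx (eq_of_specializes_of_codim_le X hzx (x.2.trans (hG.codim_eq z hz).symm).le ▸ hz)
  have hsuppY : ∀ y : Y.cdPt 1, y.1 ∉ sY →
      (Q'.tot M i n i₂ n₂ h4 h4').hom (((T.fjι Y 0 i n (fjIdx hU')).app M).hom b) y = 0 :=
    fun y hy => by
      rw [PreTheory.ResData.tot_apply]
      refine cpt_out Q' hU' y (by_contra fun h => ?_) h4 h4' b
      have hy0 : y.1 ∈ φ ⁻¹ᵁ Y₀ := hY₀ (φ y.1) (by rw [codim_map hd, y.2]; omega)
      obtain ⟨z, hz, hzy⟩ := hG'.cover y.1 hy0 h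
      exact hy (eq_of_specializes_of_codim_le Y hzy (y.2.trans (hG'.codim_eq z hz).symm).le ▸ hz)
  rw [ptSum_eq_sum hG _ hsuppX, ptSum_eq_sum hG' _ hsuppY, map_sum]
  by_cases hs : s.Nonempty
  swap
  · rw [Finset.sum_eq_zero fun x _ => absurd ⟨x.1, x.2⟩ hs,
      Finset.sum_eq_zero fun y _ => absurd ⟨_, hmemX y⟩ hs]
  obtain ⟨y₀, hy₀⟩ : sY.Nonempty := by
    obtain ⟨x, hx⟩ := hs
    obtain ⟨y, rfl⟩ := hsurj x hx
    obtain ⟨z, hz, -⟩ := hG'.cover y (hG.mem _ hx) (hG.notMem _ hx)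
    exact ⟨z, hz⟩
  have hsY : sY.Nonempty := ⟨y₀, hy₀⟩
  have hdX : (pairDec X hG.le (hG.dimUY hU)).codim = ((q : ℤ) + 1) := by
    rw [hG.hcodim hs hG.le _ rfl]; push_cast; ring
  have hdY : (pairDec Y hG'.le (hG'.dimUY hU')).codim = 1 := by
    rw [hG'.hcodim hsY hG'.le _ rfl]; rfl
  -- the base change of the complement
  let Z' : Obj V := ⟨pullback (φ ∣_ Y₀) (pairι X U Y₀),
    IsConstructible.of_isClosedImmersion (pullback.fst (φ ∣_ Y₀) (pairι X U Y₀))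
      (h := inferInstance) (Y.res (φ ⁻¹ᵁ Y₀)).mem⟩
  obtain ⟨g, hg⟩ := RedSub.exists_lift_closed (pairι X U Y₀)
    (pairι Y (φ ⁻¹ᵁ U) (φ ⁻¹ᵁ Y₀) ≫ φ ∣_ Y₀) range_pairι_comp
  let D' : Decomp (Y.res (φ ⁻¹ᵁ Y₀)) :=
    { Z := Z'
      U := Y.res (φ ⁻¹ᵁ U)
      i := pullback.fst (φ ∣_ Y₀) (pairι X U Y₀)
      closedImm := inferInstance
      j := Y.resLE hG'.le (hG'.dimUY hU')
      range_eq := by
        show Set.range (Y.scheme.homOfLE hG'.le) = _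
        rw [range_homOfLE, Scheme.Pullback.range_fst, range_pairι]
        ext p
        simp only [Set.mem_preimage, Set.mem_compl_iff, not_not]
        show φ ((φ ⁻¹ᵁ Y₀).ι p) ∈ U ↔ Y₀.ι ((φ ∣_ Y₀) p) ∈ U
        rw [← Scheme.Hom.comp_apply (φ ∣_ Y₀), morphismRestrict_ι]
        rfl }
  let k : (pairZ Y (φ ⁻¹ᵁ U) (φ ⁻¹ᵁ Y₀)).scheme ⟶ Z'.scheme :=
    pullback.lift (pairι Y (φ ⁻¹ᵁ U) (φ ⁻¹ᵁ Y₀)) g hg.symm
  have hki : k ≫ pullback.fst (φ ∣_ Y₀) (pairι X U Y₀) = pairι Y (φ ⁻¹ᵁ U) (φ ⁻¹ᵁ Y₀) :=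
    pullback.lift_fst _ _ _
  have hkZ : k ≫ pullback.snd (φ ∣_ Y₀) (pairι X U Y₀) = g := pullback.lift_snd _ _ _
  have hk1 : IsClosedImmersion k :=
    have : IsClosedImmersion (k ≫ pullback.fst (φ ∣_ Y₀) (pairι X U Y₀)) := by
      rw [hki]; infer_instance
    IsClosedImmersion.of_comp_isClosedImmersion k (pullback.fst (φ ∣_ Y₀) (pairι X U Y₀))
  have hks : Function.Surjective k := fun z => by
    obtain ⟨p, hp⟩ : pullback.fst (φ ∣_ Y₀) (pairι X U Y₀) z ∈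
        Set.range (pairι Y (φ ⁻¹ᵁ U) (φ ⁻¹ᵁ Y₀)) := by
      have h : pullback.fst (φ ∣_ Y₀) (pairι X U Y₀) z ∈
          Set.range (pullback.fst (φ ∣_ Y₀) (pairι X U Y₀)) := ⟨z, rfl⟩
      rw [Scheme.Pullback.range_fst, range_pairι, Set.mem_preimage, Set.mem_preimage,
        ← Scheme.Hom.comp_apply (φ ∣_ Y₀), morphismRestrict_ι] at h
      rw [range_pairι]
      exact h
    exact ⟨p, (pullback.fst (φ ∣_ Y₀) (pairι X U Y₀)).isClosedEmbedding.injective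
      ((congr($hki p)).trans hp)⟩
  have : Surjective k := ⟨hks⟩
  have hZd : WeilCoh.dim (pairZ Y (φ ⁻¹ᵁ U) (φ ⁻¹ᵁ Y₀)).scheme = WeilCoh.dim Z'.scheme :=
    dim_eq_of_surjective k hks
  have hZX : WeilCoh.dim (pairZ Y (φ ⁻¹ᵁ U) (φ ⁻¹ᵁ Y₀)).scheme =
      WeilCoh.dim (pairZ X U Y₀).scheme := by
    rw [hG'.dim_pairZ hsY, hG.dim_pairZ hs]; omega
  have hk0 : relCodim (pairZ Y (φ ⁻¹ᵁ U) (φ ⁻¹ᵁ Y₀)).scheme Z'.scheme = 0 := by
    simp only [relCodim, hZd, sub_self]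
  have hf0 : relCodim Z'.scheme (pairZ X U Y₀).scheme = 0 := by
    simp only [relCodim, ← hZd, hZX, sub_self]
  have hg0 : relCodim (pairZ Y (φ ⁻¹ᵁ U) (φ ⁻¹ᵁ Y₀)).scheme (pairZ X U Y₀).scheme = 0 := by
    simp only [relCodim, hZX, sub_self]
  have hD' : D'.codim = 1 := by
    show (WeilCoh.dim ((φ ⁻¹ᵁ Y₀ : _) : Scheme.{u}) : ℤ) - (WeilCoh.dim Z'.scheme : ℤ) = 1
    rw [← hZd]
    exact hdY
  have hsnd : IsProper (pullback.snd (φ ∣_ Y₀) (pairι X U Y₀)) :=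
    MorphismProperty.pullback_snd (P := @IsProper) (φ ∣_ Y₀) (pairι X U Y₀) inferInstance
  have hgp : IsProper g := by
    rw [← hkZ]; infer_instance
  -- the residue downstairs
  set r := (T.res (pairDec Y hG'.le (hG'.dimUY hU')) M i n i₂ n₂
    (by rw [hdY]; simpa using h4) (by rw [hdY]; simpa using h4')).hom b with hr
  have hres : (T.res (pairDec X hG.le (hG.dimUY hU)) M i₁ n₁ i₂ n₂ (by rw [hdX]; exact h2)
      (by rw [hdX]; exact h2')).hom v =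
      (T.push g M i₂ n₂ i₂ n₂ (by rw [hg0]; ring) (by rw [hg0]; ring)).hom r := by
    have : IsProper (X := D'.Z.scheme) (Y := (pairDec X hG.le (hG.dimUY hU)).Z.scheme)
        (pullback.snd (φ ∣_ Y₀) (pairι X U Y₀)) := hsnd
    have : IsProper (X := D'.U.scheme) (Y := (pairDec X hG.le (hG.dimUY hU)).U.scheme)
        (φ ∣_ U) := (inferInstance : IsProper (φ ∣_ U))
    have e1 := congr($(T.res_push (pairDec X hG.le (hG.dimUY hU)) D' (φ ∣_ Y₀)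
      (pullback.snd (φ ∣_ Y₀) (pairι X U Y₀)) (φ ∣_ U) (IsPullback.of_hasPullback _ _)
      (isPullback_restrict_restrict φ hG.le) M i n i₂ n₂ i₁ n₁ i₂ n₂
      (by rw [hD']; simpa using h4) (by rw [hD']; simpa using h4') hi₁ hn₁
      (by show i₂ = i₂ + 2 * relCodim Z'.scheme (pairZ X U Y₀).scheme; rw [hf0]; ring)
      (by show n₂ = n₂ + relCodim Z'.scheme (pairZ X U Y₀).scheme; rw [hf0]; ring)
      (by rw [hdX]; exact h2) (by rw [hdX]; exact h2')).hom b)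
    refine e1.symm.trans ?_
    have : IsClosedImmersion (X := (pairDec Y hG'.le (hG'.dimUY hU')).Z.scheme)
        (Y := D'.Z.scheme) k := hk1
    have : AlgebraicGeometry.Surjective (X := (pairDec Y hG'.le (hG'.dimUY hU')).Z.scheme)
        (Y := D'.Z.scheme) k := ⟨hks⟩
    have e2 := congr($(hred (Y.res (φ ⁻¹ᵁ Y₀)) D' (pairDec Y hG'.le (hG'.dimUY hU'))
      (𝟙 (Y.res (φ ⁻¹ᵁ U))) k (Category.id_comp _) hki M i n i₂ n₂
      (by rw [hD']; simpa using h4) (by rw [hD']; simpa using h4')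
      (by rw [hdY]; simpa using h4) (by rw [hdY]; simpa using h4')
      (by show i₂ = i₂ + 2 * relCodim (pairZ Y (φ ⁻¹ᵁ U) (φ ⁻¹ᵁ Y₀)).scheme Z'.scheme
          rw [hk0]; ring)
      (by show n₂ = n₂ + relCodim (pairZ Y (φ ⁻¹ᵁ U) (φ ⁻¹ᵁ Y₀)).scheme Z'.scheme
          rw [hk0]; ring)).hom b)
    refine (congrArg _ e2.symm).trans ?_
    rw [hr]
    refine (push_push T M (X := pairZ Y (φ ⁻¹ᵁ U) (φ ⁻¹ᵁ Y₀)) (Y := Z') (Z := pairZ X U Y₀)
      (f := k) (g := pullback.snd (φ ∣_ Y₀) (pairι X U Y₀)) (fg := g) hkZ _ _ _ _ (by rw [hg0]; ring) (by rw [hg0]; ring) _).trans ?_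
    exact congrArg _ (congrArg _ (pull_id T M i n b))
  -- the morphisms of pieces
  choose f hf using fun y : sY => RedSub.exists_lift_closed (pieceι X (φ y.1) Y₀)
    (pieceι Y y.1 (φ ⁻¹ᵁ Y₀) ≫ φ ∣_ Y₀) (range_pieceι_comp rfl)
  have hfp : ∀ y : sY, IsProper (f y) := fun y => by
    have : IsProper (f y ≫ pieceι X (φ y.1) Y₀) := by rw [hf]; infer_instance
    exact IsProper.of_comp (f y) (pieceι X (φ y.1) Y₀)
  have hf1 : ∀ y : sY, relCodim ((Y.ptSub y.1).res (piece Y y.1 (φ ⁻¹ᵁ Y₀))).scheme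
      ((X.ptSub (φ y.1)).res (piece X (φ y.1) Y₀)).scheme = 0 := fun y => by
    show (WeilCoh.dim (piece X (φ y.1) Y₀ : Scheme.{u}) : ℤ) -
      (WeilCoh.dim (piece Y y.1 (φ ⁻¹ᵁ Y₀) : Scheme.{u}) : ℤ) = 0
    rw [dim_piece X _ (hG.mem _ (hmemX y)), dim_piece Y y.1 (hG'.mem y.1 y.2), pdim_map, sub_self]
  let w : ∀ y : sY, T.gp ((X.ptSub (φ y.1)).res (piece X (φ y.1) Y₀)) M i₂ n₂ := fun y =>
    (T.push (X := (Y.ptSub y.1).res (piece Y y.1 (φ ⁻¹ᵁ Y₀)))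
      (Y := (X.ptSub (φ y.1)).res (piece X (φ y.1) Y₀)) (f y) M i₂ n₂ i₂ n₂
      (by rw [hf1 y]; ring) (by rw [hf1 y]; ring)).hom ((T.pull (hG'.toZ y) M i₂ n₂).hom r)
  have hsum : (T.push g M i₂ n₂ i₂ n₂ (by rw [hg0]; ring) (by rw [hg0]; ring)).hom r =
      ∑ y : sY, (IsDisjointCover.pushMem T M hG.isDisjointCover ⟨φ y.1, hmemX y⟩ i₂ n₂).hom
        (w y) := by
    conv_lhs => rw [← hG'.isDisjointCover.sum_push_pull (T := T) (M := M) r, map_sum]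
    refine Finset.sum_congr rfl fun y _ => ?_
    have p1 : IsProper (hG'.toZ y).hom := hG'.isDisjointCover.isProper y
    have p2 : IsProper (hG.toZ ⟨φ y.1, hmemX y⟩).hom := hG.isDisjointCover.isProper ⟨φ y.1, hmemX y⟩
    have p3 : IsProper ((hG'.toZ y).hom ≫ g) := inferInstance
    have hcomm : f y ≫ (hG.toZ ⟨φ y.1, hmemX y⟩).hom = (hG'.toZ y).hom ≫ g := by
      show f y ≫ hG.toZHom ⟨φ y.1, hmemX y⟩ = hG'.toZHom y ≫ g
      rw [← cancel_mono (pairι X U Y₀), Category.assoc, Category.assoc, hg, Good.toZHom_ι,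
        Good.toZHom_ι_assoc]
      exact hf y
    have h0 : relCodim ((Y.ptSub y.1).res (piece Y y.1 (φ ⁻¹ᵁ Y₀))).scheme
        (pairZ X U Y₀).scheme = 0 := by
      have := (hG'.toZ y).dim_eq
      show (WeilCoh.dim (pairZ X U Y₀).scheme : ℤ) - _ = 0
      rw [← hZX, ← this, sub_self]
    refine (push_push T M (f := (hG'.toZ y).hom) (g := g) (fg := (hG'.toZ y).hom ≫ g) rfl _ _ _ _
      (by rw [h0]; ring) (by rw [h0]; ring) _).trans ?_
    exact (push_push T M (f := f y) (g := (hG.toZ ⟨φ y.1, hmemX y⟩).hom)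
      (fg := (hG'.toZ y).hom ≫ g) hcomm _ _ _ _ _ _ _).symm
  have hX : ∀ x : s, (Q.tot M i₁ n₁ i₂ n₂ h2 h2').hom
      (((T.fjι X q i₁ n₁ (fjIdx hU)).app M).hom v) (hG.pt x) =
      ∑ y : sY, ptCls T M hG x i₂ n₂
        ((IsDisjointCover.pushMem T M hG.isDisjointCover ⟨φ y.1, hmemX y⟩ i₂ n₂).hom (w y)) := by
    intro x
    rw [PreTheory.ResData.tot_apply, cpt_res Q hG hU x h2 h2' (by rw [hdX]; exact h2)
      (by rw [hdX]; exact h2') v, hres, hsum]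
    exact (congrArg _ (map_sum _ _ _)).trans (map_sum _ _ _)
  simp_rw [hX, map_sum]
  rw [Finset.sum_comm]
  refine Finset.sum_congr rfl fun y _ => ?_
  rw [Finset.sum_eq_single ⟨φ y.1, hmemX y⟩]
  rotate_left
  · intro x _ hx
    have : ptCls T M hG x i₂ n₂ ((IsDisjointCover.pushMem T M hG.isDisjointCover
        ⟨φ y.1, hmemX y⟩ i₂ n₂).hom (w y)) = 0 := by
      let bb : ∀ k : s, T.gp ((X.ptSub k.1).res (piece X k.1 Y₀)) M i₂ n₂ :=
        Function.update 0 ⟨φ y.1, hmemX y⟩ (w y)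
      have := hG.isDisjointCover.pull_pushMem (T := T) (M := M) ⟨φ y.1, hmemX y⟩ x bb
      rw [if_neg (Ne.symm hx), show bb ⟨φ y.1, hmemX y⟩ = w y from Function.update_self ..] at this
      exact (congrArg _ this).trans (map_zero _)
    exact (congrArg _ this).trans (map_zero _)
  · exact fun h => absurd (Finset.mem_univ _) h
  erw [PreTheory.PtPush.famTot_lof]
  have hterm : ∀ (z : X.cdPt (q + 1)) (G : T.PtPush φ y.1 z.1),
      DirectSum.lof R (X.cdPt (q + 1)) (fun z : X.cdPt (q + 1) => T.ptGp X z.1 M i₂ n₂) z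
        ((G.cpt M i₂ n₂).hom ((Q'.cpt (hG'.pt y) M i n i₂ n₂ h4 h4').hom
          (((T.fjι Y 0 i n (fjIdx hU')).app M).hom b))) =
      DirectSum.lof R (X.cdPt (q + 1)) (fun z : X.cdPt (q + 1) => T.ptGp X z.1 M i₂ n₂)
        (hG.pt ⟨φ y.1, hmemX y⟩) (((T.ptι X (φ y.1) i₂ n₂
          (pieceIdx X (φ y.1) (hG.mem _ (hmemX y)))).app M).hom (w y)) := by
    rintro ⟨z, hz⟩ G
    obtain rfl : φ y.1 = z := G.maps_pt
    rw [cpt_res Q' hG' hU' y h4 h4' (by rw [hdY]; simpa using h4) (by rw [hdY]; simpa using h4') b]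
    refine congrArg _ ?_
    have := G.cpt_spec M i₂ n₂ (pieceIdx Y y.1 (hG'.mem y.1 y.2))
      (pieceIdx X (φ y.1) (hG.mem _ (hmemX y))) (f y) (by
        have h1 : (piece X (φ y.1) Y₀).ι ≫ X.ptSubι (φ y.1) = pieceι X (φ y.1) Y₀ ≫ Y₀.ι :=
          (morphismRestrict_ι _ _).symm
        rw [h1, reassoc_of% (hf y), morphismRestrict_ι, ← Category.assoc, morphismRestrict_ι,
          Category.assoc]) (by rw [hf1 y]; ring) (by rw [hf1 y]; ring)
    exact congr($(this).hom ((T.pull (hG'.toZ y) M i₂ n₂).hom r))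
  rw [PreTheory.ResData.tot_apply]
  refine Eq.trans ?_ (hterm (t (hG'.pt y)) (F (hG'.pt y))).symm
  refine congrArg _ ?_
  unfold ptCls
  refine congrArg _ ?_
  let bb : ∀ k : s, T.gp ((X.ptSub k.1).res (piece X k.1 Y₀)) M i₂ n₂ :=
    Function.update 0 ⟨φ y.1, hmemX y⟩ (w y)
  have := hG.isDisjointCover.pull_pushMem (T := T) (M := M) ⟨φ y.1, hmemX y⟩ ⟨φ y.1, hmemX y⟩ bb
  rw [if_pos rfl, show bb ⟨φ y.1, hmemX y⟩ = w y from Function.update_self ..] at this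
  exact this

end Groth.Agent.BMLib
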