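import Groth.Prelude.Def_BMCoh3
import Groth.Agent.BMLib.Colim
import Mathlib.CategoryTheory.Limits.Shapes.KernelPair

/-!
Elementwise forms of the axioms of a pre-theory, and additivity on disjoint unions.
-/

set_option autoImplicit false
set_option linter.unusedSectionVars false

universe u

open AlgebraicGeometry CategoryTheory CategoryTheory.Limits Opposite

namespace Groth.Agent.BMLib

open BMCoh

variable {V : ObjectProperty Scheme.{u}} [IsConstructible V] {R : Type u} [CommRing R]
  {A : Coefs R} (T : PreTheory V R A) {X Y Z : Obj V} (M : A.Cat)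

lemma pull_id (i n : ℤ) (a : T.gp X M i n) : (T.pull (𝟙 X) M i n).hom a = a := by
  show (((T.H i n).map (𝟙 X).op).app M).hom a = a
  rw [op_id, CategoryTheory.Functor.map_id]
  rfl

lemma pull_pull (f : X ⟶ Y) (g : Y ⟶ Z) (i n : ℤ) (a : T.gp Z M i n) :
    (T.pull f M i n).hom ((T.pull g M i n).hom a) = (T.pull (f ≫ g) M i n).hom a := by
  show _ = (((T.H i n).map (f ≫ g).op).app M).hom a
  rw [op_comp, CategoryTheory.Functor.map_comp]
  rfl

lemma pull_bijective (f : X ⟶ Y) [IsIso f.hom] (i n : ℤ) :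
    Function.Bijective (T.pull f M i n).hom := by
  let g : Y ⟶ X := ⟨inv f.hom, inferInstance, f.dim_eq.symm⟩
  have h1 : f ≫ g = 𝟙 X := Hom.ext (IsIso.hom_inv_id f.hom)
  have h2 : g ≫ f = 𝟙 Y := Hom.ext (IsIso.inv_hom_id f.hom)
  refine Function.bijective_iff_has_inverse.2 ⟨(T.pull g M i n).hom, fun a => ?_, fun a => ?_⟩
  · rw [pull_pull, h2, pull_id]
  · rw [pull_pull, h1, pull_id]

lemma push_congr {f f' : X.scheme ⟶ Y.scheme} [IsProper f] [IsProper f'] (h : f = f')
    (i n i' n' : ℤ) (hi hn) : T.push f M i n i' n' hi hn = T.push f' M i n i' n' hi hn := by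
  subst h; rfl

lemma push_push {f : X.scheme ⟶ Y.scheme} {g : Y.scheme ⟶ Z.scheme} {fg : X.scheme ⟶ Z.scheme}
    [IsProper f] [IsProper g] [IsProper fg] (h : f ≫ g = fg) {i n i' n' i'' n'' : ℤ}
    (hi hn hi' hn' hi'' hn'') (a : T.gp X M i n) :
    (T.push g M i' n' i'' n'' hi' hn').hom ((T.push f M i n i' n' hi hn).hom a) =
      (T.push fg M i n i'' n'' hi'' hn'').hom a := by
  subst h
  rw [← T.push_comp f g M i n i' n' i'' n'' hi hn hi' hn' hi'' hn'']
  rfl

lemma push_id_apply {f : X.scheme ⟶ X.scheme} [IsProper f] (h : f = 𝟙 _) (i n : ℤ) (hi hn)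
    (a : T.gp X M i n) : (T.push f M i n i n hi hn).hom a = a := by
  subst h
  rw [T.push_id X M i n hi hn]
  rfl

lemma push_bijective (f : X.scheme ⟶ Y.scheme) [IsIso f] [IsProper f] {i n i' n' : ℤ}
    (hi : i' = i + 2 * relCodim X.scheme Y.scheme) (hn : n' = n + relCodim X.scheme Y.scheme) :
    Function.Bijective (T.push f M i n i' n' hi hn).hom := by
  have hd : relCodim X.scheme Y.scheme = 0 := by
    simp [relCodim, dim_eq_of_iso (asIso f)]
  have hd' : relCodim Y.scheme X.scheme = 0 := by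
    simp [relCodim, dim_eq_of_iso (asIso f)]
  have hi0 : i' = i := by omega
  have hn0 : n' = n := by omega
  subst hi0 hn0
  refine Function.bijective_iff_has_inverse.2
    ⟨(T.push (inv f) M i' n' i' n' (by omega) (by omega)).hom, fun a => ?_, fun a => ?_⟩
  · rw [push_push T M (fg := 𝟙 _) (IsIso.hom_inv_id f) hi hn _ _ (by simp [relCodim])
      (by simp [relCodim]), push_id_apply T M rfl]
  · rw [push_push T M (fg := 𝟙 _) (IsIso.inv_hom_id f) _ _ hi hn (by simp [relCodim])
      (by simp [relCodim]), push_id_apply T M rfl]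

/-- Base change, elementwise. -/
lemma pull_push {X' Y' : Obj V} (f : X.scheme ⟶ Y.scheme) [IsProper f]
    (f' : X'.scheme ⟶ Y'.scheme) [IsProper f'] (g : Y' ⟶ Y) (g' : X' ⟶ X)
    (h : IsPullback g'.hom f' f g.hom) {i n i' n' : ℤ} (hi hn hi' hn') (a : T.gp X M i n) :
    (T.pull g M i' n').hom ((T.push f M i n i' n' hi hn).hom a) =
      (T.push f' M i n i' n' hi' hn').hom ((T.pull g' M i n).hom a) :=
  congr($(T.push_pull f f' g g' h M i n i' n' hi hn hi' hn').hom a)

lemma pull_push_self (g : X ⟶ Y) [IsProper g.hom] (i n : ℤ) (hi hn) (a : T.gp X M i n) :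
    (T.pull g M i n).hom ((T.push g.hom M i n i n hi hn).hom a) = a := by
  rw [pull_push T M g.hom (𝟙 X.scheme) g (𝟙 X) (IsKernelPair.id_of_mono g.hom) hi hn
    (by simp [relCodim]) (by simp [relCodim]) a, push_id_apply T M rfl, pull_id]

variable {T M}

section Decomp

variable (D : Decomp X) {i n i' n' : ℤ}

lemma pull_j_push (hi : i' = i + 2 * relCodim D.Z.scheme X.scheme)
    (hn : n' = n + relCodim D.Z.scheme X.scheme) (a : T.gp D.Z M i n) :
    (T.pull D.j M i' n').hom ((T.push D.i M i n i' n' hi hn).hom a) = 0 := by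
  obtain ⟨k, rfl⟩ : ∃ k, i' = k + 1 := ⟨i' - 1, by omega⟩
  exact (T.exact_push_pull D M k n' i n hi hn).apply_apply_eq_zero a

lemma exists_push_of_pull_j (hi : i' = i + 2 * relCodim D.Z.scheme X.scheme)
    (hn : n' = n + relCodim D.Z.scheme X.scheme) {b : T.gp X M i' n'}
    (h : (T.pull D.j M i' n').hom b = 0) :
    ∃ a, (T.push D.i M i n i' n' hi hn).hom a = b := by
  obtain ⟨k, rfl⟩ : ∃ k, i' = k + 1 := ⟨i' - 1, by omega⟩
  exact (T.exact_push_pull D M k n' i n hi hn b).1 h

lemma res_pull_j (hi : i' = i + 1 - 2 * D.codim) (hn : n' = n - D.codim) (a : T.gp X M i n) :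
    (T.res D M i n i' n' hi hn).hom ((T.pull D.j M i n).hom a) = 0 :=
  (T.exact_pull_res D M i n i' n' hi hn).apply_apply_eq_zero a

lemma exists_pull_of_res (hi : i' = i + 1 - 2 * D.codim) (hn : n' = n - D.codim)
    {a : T.gp D.U M i n} (h : (T.res D M i n i' n' hi hn).hom a = 0) :
    ∃ b, (T.pull D.j M i n).hom b = a :=
  (T.exact_pull_res D M i n i' n' hi hn a).1 h

lemma push_res {i₂ : ℤ} (h₂ : i₂ = i + 1) (hi : i' = i + 1 - 2 * D.codim) (hn : n' = n - D.codim)
    (hi' : i₂ = i' + 2 * relCodim D.Z.scheme X.scheme)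
    (hn' : n = n' + relCodim D.Z.scheme X.scheme) (a : T.gp D.U M i n) :
    (T.push D.i M i' n' i₂ n hi' hn').hom ((T.res D M i n i' n' hi hn).hom a) = 0 := by
  subst h₂
  exact (T.exact_res_push D M i n i' n' hi hn hi' hn').apply_apply_eq_zero a

lemma exists_res_of_push {i₂ : ℤ} (h₂ : i₂ = i + 1) (hi : i' = i + 1 - 2 * D.codim)
    (hn : n' = n - D.codim) (hi' : i₂ = i' + 2 * relCodim D.Z.scheme X.scheme)
    (hn' : n = n' + relCodim D.Z.scheme X.scheme) {b : T.gp D.Z M i' n'}
    (h : (T.push D.i M i' n' i₂ n hi' hn').hom b = 0) :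
    ∃ a, (T.res D M i n i' n' hi hn).hom a = b := by
  subst h₂
  exact (T.exact_res_push D M i n i' n' hi hn hi' hn' b).1 h

end Decomp

variable (T M)

lemma isZero_of_isEmpty [IsEmpty X.scheme] (i n : ℤ) (a : T.gp X M i n) : a = 0 := by
  let D : Decomp X := ⟨X, X.res ⊤, 𝟙 X.scheme, inferInstance, X.resTop, Subsingleton.elim _ _⟩
  have h := pull_j_push D (i := i) (n := n) (i' := i) (n' := n) (T := T) (M := M)
    (by simp [relCodim, D]) (by simp [relCodim, D]) a
  rw [push_id_apply T M rfl] at h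
  have : IsIso D.j.hom := inferInstanceAs (IsIso (⊤ : X.scheme.Opens).ι)
  exact (pull_bijective T M D.j i n).1 (h.trans (map_zero _).symm)

/-- The complement of a closed open piece. -/
noncomputable def compl' {W : Obj V} (g : W ⟶ Z) [IsClosedImmersion g.hom]
    (h : WeilCoh.dim (Scheme.Opens.toScheme (X := Z.scheme)
      ⟨(Set.range g.hom)ᶜ, g.hom.isClosedEmbedding.isClosed_range.isOpen_compl⟩) =
      WeilCoh.dim Z.scheme) : Decomp Z where
  Z := W
  U := Z.res ⟨(Set.range g.hom)ᶜ, g.hom.isClosedEmbedding.isClosed_range.isOpen_compl⟩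
  i := g.hom
  closedImm := inferInstance
  j := Z.resι _ h
  range_eq := Scheme.Opens.range_ι _

/-- A finite family of morphisms of objects with pairwise disjoint images covering the target. -/
structure IsDisjointCover {ι : Type u} {W : ι → Obj V} (g : ∀ k, W k ⟶ Z) : Prop where
  disjoint : ∀ k l, k ≠ l → Disjoint (Set.range (g k).hom) (Set.range (g l).hom)
  cover : ∀ z : Z.scheme, ∃ k, z ∈ Set.range (g k).hom

namespace IsDisjointCover

variable {T M} {ι : Type u} [Finite ι] {W : ι → Obj V} {g : ∀ k, W k ⟶ Z} (hg : IsDisjointCover g)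

include hg in
lemma isClosedImmersion (k : ι) : IsClosedImmersion (g k).hom := by
  refine .of_isPreimmersion _ ⟨?_⟩
  rw [show (Set.range (g k).hom)ᶜ = ⋃ l ∈ ({k}ᶜ : Set ι), Set.range (g l).hom from ?_]
  · exact isOpen_biUnion fun l _ => (g l).hom.isOpenEmbedding.isOpen_range
  · ext z
    simp only [Set.mem_compl_iff, Set.mem_iUnion, Set.mem_singleton_iff, exists_prop]
    constructor
    · intro hz
      obtain ⟨l, hl⟩ := hg.cover z
      exact ⟨l, fun h => hz (h ▸ hl), hl⟩
    · rintro ⟨l, hlk, hl⟩ hk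
      exact Set.disjoint_left.1 (hg.disjoint l k hlk) hl hk

include hg in
lemma isProper (k : ι) : IsProper (g k).hom :=
  have := hg.isClosedImmersion k
  inferInstance

end IsDisjointCover

namespace IsDisjointCover

variable {T M}

lemma pull_eq_zero_aux (N : ℕ) : ∀ (ι : Type u) [Fintype ι], Fintype.card ι = N →
    ∀ (W : ι → Obj V) (Z : Obj V) (g : ∀ k, W k ⟶ Z), IsDisjointCover g →
    ∀ (i n : ℤ) (a : T.gp Z M i n), (∀ k, (T.pull (g k) M i n).hom a = 0) → a = 0 := by
  classical
  induction N using Nat.strong_induction_on with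
  | _ N ih =>
    intro ι _ hN W Z g hg i n a ha
    rcases isEmpty_or_nonempty Z.scheme with hZ | hZ
    · exact isZero_of_isEmpty T M i n a
    obtain ⟨k, -⟩ := hg.cover (Classical.arbitrary _)
    have := hg.isClosedImmersion k
    by_cases hall : ∀ z, z ∈ Set.range (g k).hom
    · have : Surjective (g k).hom := ⟨hall⟩
      have : IsIso (g k).hom := isIso_of_isOpenImmersion_of_opensRange_eq_top (g k).hom
        (TopologicalSpace.Opens.ext (Set.eq_univ_of_forall hall))
      exact (pull_bijective T M (g k) i n).1 ((ha k).trans (map_zero _).symm)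
    push Not at hall
    obtain ⟨z₀, hz₀⟩ := hall
    let U : Z.scheme.Opens :=
      ⟨(Set.range (g k).hom)ᶜ, (g k).hom.isClosedEmbedding.isClosed_range.isOpen_compl⟩
    have hl : ∀ l : {l // l ≠ k}, Set.range (g l.1).hom ⊆ Set.range U.ι := by
      intro l z hz
      rw [Scheme.Opens.range_ι]
      exact fun hk => Set.disjoint_left.1 (hg.disjoint l.1 k l.2) hz hk
    have hU : WeilCoh.dim (U : Scheme.{u}) = WeilCoh.dim Z.scheme := by
      obtain ⟨l, hzl⟩ := hg.cover z₀
      have hlk : l ≠ k := fun h => hz₀ (h ▸ hzl)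
      have : Nonempty (W l).scheme := hzl.elim fun w _ => ⟨w⟩
      obtain ⟨w, hw⟩ := exists_pdim_eq_dim (W l).mem
      refine dim_eq_of (Z.res U).mem (fun v => ?_) ?_
      · rw [pdim_openImmersion Z U.ι]; exact pdim_le_dim Z.mem _
      · obtain ⟨v, hv⟩ := hl ⟨l, hlk⟩ ⟨w, rfl⟩
        refine ⟨v, ?_⟩
        rw [pdim_openImmersion Z U.ι, hv, ← pdim_openImmersion Z (g l).hom, hw]
        exact (g l).dim_eq
    let D := compl' (g k) hU
    obtain ⟨b, hb⟩ : ∃ b, (T.push D.i M i n i n (by simp [D, compl', relCodim, (g k).dim_eq])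
        (by simp [D, compl', relCodim, (g k).dim_eq])).hom b = a := by
      refine exists_push_of_pull_j D _ _ ?_
      let g' : ∀ l : {l // l ≠ k}, W l.1 ⟶ Z.res U := fun l =>
        ⟨IsOpenImmersion.lift U.ι (g l.1).hom (hl l),
          have : IsOpenImmersion (IsOpenImmersion.lift U.ι (g l.1).hom (hl l) ≫ U.ι) := by
            rw [IsOpenImmersion.lift_fac]; infer_instance
          IsOpenImmersion.of_comp _ U.ι, (g l.1).dim_eq.trans hU.symm⟩
      have hg' : ∀ l, g' l ≫ Z.resι U hU = g l.1 := fun l =>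
        Hom.ext (IsOpenImmersion.lift_fac _ _ _)
      have hr : ∀ (l : {l // l ≠ k}) (v : (Z.res U).scheme),
          v ∈ Set.range (g' l).hom ↔ U.ι v ∈ Set.range (g l.1).hom := by
        intro l v
        have hfac : (g' l).hom ≫ U.ι = (g l.1).hom := IsOpenImmersion.lift_fac _ _ _
        constructor
        · rintro ⟨w, rfl⟩
          exact ⟨w, congr($hfac.symm w)⟩
        · rintro ⟨w, hw⟩
          refine ⟨w, U.ι.isOpenEmbedding.injective ?_⟩
          rw [← hw]
          exact congr($hfac w)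
      refine ih _ ?_ _ rfl _ (Z.res U) g' ⟨fun l l' hne => ?_, fun v => ?_⟩ i n _ fun l => ?_
      · exact hN ▸ Fintype.card_subtype_lt (p := fun l => l ≠ k) (x := k) (by simp)
      · rw [Set.disjoint_left]
        intro v h1 h2
        exact Set.disjoint_left.1 (hg.disjoint l.1 l'.1 (fun h => hne (Subtype.ext h)))
          ((hr l v).1 h1) ((hr l' v).1 h2)
      · obtain ⟨l, hzl⟩ := hg.cover (U.ι v)
        have hv : U.ι v ∉ Set.range (g k).hom := by
          have : U.ι v ∈ (U : Set Z.scheme) := by rw [← Scheme.Opens.range_ι]; exact ⟨v, rfl⟩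
          exact this
        exact ⟨⟨l, fun h => hv (h ▸ hzl)⟩, (hr _ v).2 hzl⟩
      · show (T.pull (g' l) M i n).hom ((T.pull (Z.resι U hU) M i n).hom a) = 0
        rw [pull_pull, hg']
        exact ha _
    have := ha k
    rw [← hb, show (T.pull (g k) M i n).hom ((T.push D.i M i n i n _ _).hom b) = b from
      pull_push_self T M (g k) i n _ _ b] at this
    rw [← hb, this]
    exact map_zero _

variable {ι : Type u} [Fintype ι] {W : ι → Obj V} {g : ∀ k, W k ⟶ Z} (hg : IsDisjointCover g)
  {i n : ℤ}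

include hg in
lemma eq_zero {a : T.gp Z M i n} (ha : ∀ k, (T.pull (g k) M i n).hom a = 0) : a = 0 :=
  pull_eq_zero_aux _ ι rfl W Z g hg i n a ha

lemma hidx (g : X ⟶ Y) (i : ℤ) : i = i + 2 * relCodim X.scheme Y.scheme := by
  simp [relCodim, g.dim_eq]

lemma hidx' (g : X ⟶ Y) (n : ℤ) : n = n + relCodim X.scheme Y.scheme := by
  simp [relCodim, g.dim_eq]

variable (T M) in
/-- Push-forward along a member of a disjoint cover. -/
noncomputable def pushMem (k : ι) (i n : ℤ) : T.gp (W k) M i n ⟶ T.gp Z M i n :=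
  have := hg.isProper k
  T.push (g k).hom M i n i n (hidx (g k) i) (hidx' (g k) n)

include hg in
lemma pull_pushMem [DecidableEq ι] (k l : ι) (b : ∀ k, T.gp (W k) M i n) :
    (T.pull (g l) M i n).hom ((pushMem T M hg k i n).hom (b k)) = if k = l then b l else 0 := by
  have := hg.isClosedImmersion k
  split_ifs with h
  · subst h
    exact pull_push_self T M (g k) i n _ _ _
  · rcases isEmpty_or_nonempty (W l).scheme with he | he
    · exact isZero_of_isEmpty T M i n _
    let U : Z.scheme.Opens :=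
      ⟨(Set.range (g k).hom)ᶜ, (g k).hom.isClosedEmbedding.isClosed_range.isOpen_compl⟩
    have hl : Set.range (g l).hom ⊆ Set.range U.ι := by
      intro z hz
      rw [Scheme.Opens.range_ι]
      exact fun hk => Set.disjoint_left.1 (hg.disjoint l k (Ne.symm h)) hz hk
    have hU : WeilCoh.dim (U : Scheme.{u}) = WeilCoh.dim Z.scheme := by
      obtain ⟨w, hw⟩ := exists_pdim_eq_dim (W l).mem
      refine dim_eq_of (Z.res U).mem (fun v => ?_) ?_
      · rw [pdim_openImmersion Z U.ι]; exact pdim_le_dim Z.mem _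
      · obtain ⟨v, hv⟩ := hl ⟨w, rfl⟩
        refine ⟨v, ?_⟩
        rw [pdim_openImmersion Z U.ι, hv, ← pdim_openImmersion Z (g l).hom, hw]
        exact (g l).dim_eq
    have : IsOpenImmersion (IsOpenImmersion.lift U.ι (g l).hom hl ≫ U.ι) := by
      rw [IsOpenImmersion.lift_fac]; infer_instance
    let g' : W l ⟶ Z.res U := ⟨IsOpenImmersion.lift U.ι (g l).hom hl,
      IsOpenImmersion.of_comp _ U.ι, (g l).dim_eq.trans hU.symm⟩
    have hg' : g' ≫ Z.resι U hU = g l := Hom.ext (IsOpenImmersion.lift_fac _ _ _)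
    rw [← hg', ← pull_pull]
    show (T.pull g' M i n).hom ((T.pull (compl' (g k) hU).j M i n).hom _) = 0
    rw [show (T.pull (compl' (g k) hU).j M i n).hom ((pushMem T M hg k i n).hom (b k)) = 0 from
      pull_j_push (compl' (g k) hU) _ _ (b k)]
    exact map_zero _

include hg in
lemma pull_sum [DecidableEq ι] (l : ι) (b : ∀ k, T.gp (W k) M i n) :
    (T.pull (g l) M i n).hom (∑ k, (pushMem T M hg k i n).hom (b k)) = b l := by
  rw [map_sum]
  simp_rw [hg.pull_pushMem]
  simp

include hg in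
/-- A class on a finite disjoint union is the sum of the push-forwards of its restrictions. -/
lemma sum_push_pull (a : T.gp Z M i n) :
    ∑ k, (pushMem T M hg k i n).hom ((T.pull (g k) M i n).hom a) = a := by
  classical
  rw [← sub_eq_zero]
  refine hg.eq_zero fun l => ?_
  rw [map_sub, hg.pull_sum l fun k => (T.pull (g k) M i n).hom a, sub_self]

end IsDisjointCover

end Groth.Agent.BMLib
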