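import Groth.Agent.BMLib.Vanish

/-!
Disjoint unions, restriction to big opens and comparison with closed subschemes.
-/

set_option autoImplicit false
set_option linter.unusedSectionVars false

universe u

open AlgebraicGeometry CategoryTheory CategoryTheory.Limits Opposite TopologicalSpace Order

namespace Groth.Agent.BMLib

open BMCoh

variable {V : ObjectProperty Scheme.{u}} [IsConstructible V] {R : Type u} [CommRing R]
  {A : Coefs R} {T : PreTheory V R A} {X : Obj V} {M : A.Cat}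

lemma pull_prod_bijective {X Y W : Obj V} (iX : X ⟶ W) (iY : Y ⟶ W)
    (h : Set.range iX.hom = (Set.range iY.hom)ᶜ) (i n : ℤ) :
    Function.Bijective
      (fun a : T.gp W M i n => ((T.pull iX M i n).hom a, (T.pull iY M i n).hom a)) := by
  classical
  let F : ULift.{u} Bool → Obj V := fun b => if b.down then X else Y
  let g : ∀ b, F b ⟶ W := fun b => match b with
    | ⟨true⟩ => iX
    | ⟨false⟩ => iY
  have hg : IsDisjointCover g := by
    constructor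
    · rintro ⟨_ | _⟩ ⟨_ | _⟩ hne
      · exact absurd rfl hne
      · exact Set.disjoint_left.2 fun z hy hx => (h ▸ hx : z ∈ (Set.range iY.hom)ᶜ) hy
      · exact Set.disjoint_left.2 fun z hx hy => (h ▸ hx : z ∈ (Set.range iY.hom)ᶜ) hy
      · exact absurd rfl hne
    · intro z
      by_cases hz : z ∈ Set.range iY.hom
      · exact ⟨⟨false⟩, hz⟩
      · exact ⟨⟨true⟩, (h ▸ hz : z ∈ Set.range iX.hom)⟩
  constructor
  · refine fun a a' e => sub_eq_zero.1 (hg.eq_zero ?_)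
    simp only [Prod.ext_iff] at e
    rintro ⟨_ | _⟩
    · show (T.pull iY M i n).hom (a - a') = 0
      rw [map_sub, e.2, sub_self]
    · show (T.pull iX M i n).hom (a - a') = 0
      rw [map_sub, e.1, sub_self]
  · rintro ⟨a, b⟩
    let v : ∀ k, T.gp (F k) M i n := fun k => match k with
      | ⟨true⟩ => a
      | ⟨false⟩ => b
    exact ⟨∑ k, (IsDisjointCover.pushMem T M hg k i n).hom (v k),
      Prod.ext (hg.pull_sum ⟨true⟩ v) (hg.pull_sum ⟨false⟩ v)⟩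

lemma exists_pdim_eq {S : Scheme.{u}} (hS : V S) [Nonempty S] {k : ℕ} (hk : k ≤ WeilCoh.dim S) :
    ∃ x : S, WeilCoh.pdim S x = k := by
  let _ : PartialOrder S := specializationOrder S
  obtain ⟨x, hx⟩ := exists_pdim_eq_dim hS
  obtain ⟨p, hp, hl⟩ := exists_series_of_height_eq_coe x (n := WeilCoh.dim S)
    (by rw [← hx]; exact (coe_pdim hS x).symm)
  refine ⟨p ⟨k, by omega⟩, ?_⟩
  have h2 : (WeilCoh.pdim S (p ⟨k, by omega⟩) : ℕ∞) = (k : ℕ∞) := by
    rw [coe_pdim hS]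
    exact height_eq_index_of_length_eq_height_last (p := p)
      (by rw [hl, hp, ← coe_pdim hS, hx]) ⟨k, by omega⟩
  exact_mod_cast h2

lemma dim_pairZ_eq {U Y : X.scheme.Opens} {e : ℕ}
    (h1 : ∀ z ∈ Y, z ∉ U → WeilCoh.pdim X.scheme z ≤ e)
    (h2 : ∃ z ∈ Y, z ∉ U ∧ WeilCoh.pdim X.scheme z = e) :
    WeilCoh.dim (pairZ X U Y).scheme = e := by
  refine dim_eq_of (pairZ X U Y).mem (fun z => ?_) ?_
  · rw [pdim_pairZ]; exact h1 _ (opens_ι_mem X Y _) (pairι_notMem X z)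
  · obtain ⟨z, hzY, hzU, hze⟩ := h2
    obtain ⟨y, hy⟩ : z ∈ Set.range Y.ι := by rw [Scheme.Opens.range_ι]; exact hzY
    obtain ⟨w, hw⟩ : y ∈ Set.range (pairι X U Y) := by
      rw [range_pairι, Set.mem_preimage, hy]; exact hzU
    exact ⟨w, by rw [pdim_pairZ, hw, hy, hze]⟩

/-- The factorisation through an open containing the image. -/
noncomputable def liftOpen {S Z : Obj V} (g : S ⟶ Z) (W : Z.scheme.Opens)
    (hW : Set.range g.hom ⊆ W) (hd : WeilCoh.dim (W : Scheme.{u}) = WeilCoh.dim Z.scheme) :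
    S ⟶ Z.res W :=
  ⟨IsOpenImmersion.lift W.ι g.hom (hW.trans_eq (Scheme.Opens.range_ι W).symm),
    have : IsOpenImmersion (IsOpenImmersion.lift W.ι g.hom
        (hW.trans_eq (Scheme.Opens.range_ι W).symm) ≫ W.ι) := by
      rw [IsOpenImmersion.lift_fac]; exact g.isOpenImmersion
    IsOpenImmersion.of_comp _ W.ι, g.dim_eq.trans hd.symm⟩

lemma liftOpen_fac {S Z : Obj V} (g : S ⟶ Z) (W : Z.scheme.Opens) (hW) (hd) :
    liftOpen g W hW hd ≫ Z.resι W hd = g :=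
  Hom.ext (IsOpenImmersion.lift_fac _ _ _)

lemma isIso_liftOpen {S Z : Obj V} (g : S ⟶ Z) (W : Z.scheme.Opens) (hd)
    (hW : Set.range g.hom = W) : IsIso (liftOpen g W hW.le hd).hom := by
  have := (liftOpen g W hW.le hd).isOpenImmersion
  refine isIso_of_isOpenImmersion_of_opensRange_eq_top _ (Opens.ext (Set.eq_univ_of_forall ?_))
  intro w
  obtain ⟨s, hs⟩ : W.ι w ∈ Set.range g.hom := by
    rw [hW]; exact opens_ι_mem Z W w
  exact ⟨s, W.ι.isOpenEmbedding.injective ((congr($(congrArg Hom.hom (liftOpen_fac g W hW.le hd)) s)).trans hs)⟩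

lemma cancel_resι {S Z : Obj V} {W : Z.scheme.Opens} {hd} {f g : S ⟶ Z.res W}
    (h : f ≫ Z.resι W hd = g ≫ Z.resι W hd) : f = g :=
  Hom.ext ((cancel_mono W.ι).1 (congrArg Hom.hom h))

section big

variable {U : Obj V} (f : U ⟶ X)

lemma pull_bijective_of_big
    (hbig : ∀ x : X.scheme, x ∉ Set.range f.hom → 2 ≤ WeilCoh.codim X.scheme x) {i n : ℤ}
    (hX : ∀ Z : Obj V, Function.Bijective ((T.toFj Z 1 i n).app M).hom) :
    Function.Bijective (T.pull f M i n).hom := by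
  let U₀ : X.scheme.Opens := f.hom.opensRange
  have h1 : ContainsFj X 1 U₀ := fun z hz => by
    by_contra h
    exact absurd (hbig z h) (by omega)
  have hd := containsFj_dim X h1
  let g := liftOpen f U₀ (Set.Subset.refl _) hd
  have : IsIso g.hom := isIso_liftOpen f U₀ hd rfl
  have hg := pull_bijective T M g i n
  suffices H : Function.Bijective (T.pull (X.resι U₀ hd) M i n).hom by
    have e : ⇑(T.pull f M i n).hom = ⇑(T.pull g M i n).hom ∘ ⇑(T.pull (X.resι U₀ hd) M i n).hom :=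
      funext fun a => by
        rw [Function.comp_apply, pull_pull, liftOpen_fac]
    rw [e]
    exact hg.comp H
  have hcl : ∀ a : T.gp X M i n, ((T.toFj X 1 i n).app M).hom a =
      ((T.fjι X 1 i n (fjIdx h1)).app M).hom ((T.pull (X.resι U₀ hd) M i n).hom a) := fun a => by
    rw [toFj_eq, show X.resι U₀ hd = X.resLE le_top (hd.trans (dim_top X.scheme).symm) ≫ X.resTop
      from (resLE_resι X _ _ (dim_top X.scheme)).symm, ← pull_pull]
    exact (fjι_res (U := fjIdx (containsFj_top X 1)) (U' := fjIdx h1) le_top _ i n _).symm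
  constructor
  · refine (injective_iff_map_eq_zero _).2 fun a ha => (hX X).1 ?_
    rw [hcl, ha, map_zero, map_zero]
  · intro b
    obtain ⟨a, ha⟩ := (hX X).2 (((T.fjι X 1 i n (fjIdx h1)).app M).hom b)
    rw [hcl] at ha
    obtain ⟨W, hle, hW⟩ := ι_eq_zero T (fjIdx h1) M i n
      ((T.pull (X.resι U₀ hd) M i n).hom a - b) (by rw [map_sub, sub_eq_zero]; exact ha)
    refine ⟨a, sub_eq_zero.1 ((hX (X.res U₀)).1 ?_)⟩
    rw [map_zero, toFj_eq]
    let W' : (X.res U₀).scheme.Opens := U₀.ι ⁻¹ᵁ W.1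
    have hW' : ContainsFj (X.res U₀) 1 W' := fun z hz => by
      refine W.2.1 _ ?_
      simp only [WeilCoh.codim] at hz ⊢
      rw [pdim_openImmersion X U₀.ι z] at hz
      show WeilCoh.dim X.scheme - WeilCoh.pdim X.scheme (U₀.ι z) ≤ 1
      rw [← hd]
      exact hz
    have hd' := containsFj_dim (X.res U₀) hW'
    refine (fjι_res (U := fjIdx (containsFj_top (X.res U₀) 1)) (U' := fjIdx hW') le_top
      (hd'.trans (dim_top (X.res U₀).scheme).symm) i n _).symm.trans ?_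
    rw [pull_pull, show (X.res U₀).resLE (U := W') (U' := ⊤) le_top
      (hd'.trans (dim_top (X.res U₀).scheme).symm) ≫ (X.res U₀).resTop = (X.res U₀).resι W' hd'
      from resLE_resι (X.res U₀) _ _ (dim_top _)]
    have hsub : Set.range (W'.ι ≫ U₀.ι) ⊆ W.1 := by
      rintro _ ⟨w, rfl⟩
      exact opens_ι_mem (X.res U₀) W' w
    let k : (X.res U₀).res W' ⟶ X.res W.1 :=
      liftOpen ((X.res U₀).resι W' hd' ≫ X.resι U₀ hd) W.1 hsub W.2.2
    have hk : k ≫ X.resLE hle (W.2.2.trans hd.symm) = (X.res U₀).resι W' hd' := by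
      refine cancel_resι (hd := hd) ?_
      rw [Category.assoc, resLE_resι, liftOpen_fac]
    rw [← hk, ← pull_pull]
    rw [show (T.pull (X.resLE hle (W.2.2.trans hd.symm)) M i n).hom _ = 0 from hW, map_zero, map_zero]

end big

section closed

variable (j m : ℕ) {i n : ℤ}

lemma exists_open_avoid {U Y : X.scheme.Opens} {e : ℕ} (hUY : U ≤ Y)
    (hY : ContainsFj X (j + 1 + m) Y) (he : e + (j + 1) = WeilCoh.dim X.scheme)
    {Z : Obj V} (ι : Z.scheme ⟶ X.scheme) [IsClosedImmersion ι]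
    (hι : Disjoint (Set.range ι) (U : Set X.scheme)) (hZ : WeilCoh.dim Z.scheme = e)
    {W : Z.scheme.Opens} (hW : ContainsFj Z m W) :
    ∃ Y' : X.scheme.Opens, Y' ≤ Y ∧ U ≤ Y' ∧ ContainsFj X (j + 1 + m) Y' ∧
      ∀ z, ι z ∈ Y' → z ∈ W := by
  let C : Set X.scheme := ι '' (W : Set Z.scheme)ᶜ
  have hC : IsClosed C := ι.isClosedEmbedding.isClosedMap _ W.isOpen.isClosed_compl
  refine ⟨Y ⊓ ⟨Cᶜ, hC.isOpen_compl⟩, inf_le_left, fun z hz => ⟨hUY hz, ?_⟩,
    fun z hz => ⟨hY z hz, ?_⟩, fun z hz => by_contra fun h => hz.2 ⟨z, h, rfl⟩⟩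
  · rintro ⟨w, -, rfl⟩
    exact Set.disjoint_left.1 hι ⟨w, rfl⟩ hz
  · rintro ⟨w, hw, rfl⟩
    refine hw (hW w ?_)
    simp only [WeilCoh.codim] at hz ⊢
    rw [← pdim_closedImmersion ι w] at hz
    omega

variable (hZ : ∀ (Z : Obj V) (ι : Z.scheme ⟶ X.scheme) [IsClosedImmersion ι] [IsReduced Z.scheme],
  WeilCoh.dim Z.scheme + (j + 1) = WeilCoh.dim X.scheme →
  (∀ a : T.fjGp Z m M (i - 2 * ((j : ℤ) + 1)) (n - ((j : ℤ) + 1)), a = 0) ∧
    ∀ a : T.fjGp Z m M (i + 1 - 2 * ((j : ℤ) + 1)) (n - ((j : ℤ) + 1)), a = 0)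

include hZ in
lemma fjRes_bijective_of_closed (h : j ≤ j + 1 + m) :
    Function.Bijective ((T.fjRes X h i n).app M).hom := by
  set d := WeilCoh.dim X.scheme with hd
  by_cases hj : j + 1 ≤ d
  swap
  · have h1 := toFj_bijective_of_dim_le (T := T) (X := X) (M := M) (m := j + 1 + m)
      (by omega) i n
    have h2 := toFj_bijective_of_dim_le (T := T) (X := X) (M := M) (m := j) (by omega) i n
    refine (Function.Bijective.of_comp_iff _ h1).1 ?_
    rwa [show ⇑((T.fjRes X h i n).app M).hom ∘ ⇑((T.toFj X (j + 1 + m) i n).app M).hom =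
      ⇑((T.toFj X j i n).app M).hom from funext fun a => fjRes_toFj h i n a]
  have : Nonempty X.scheme := by
    by_contra hne
    rw [not_nonempty_iff] at hne
    have : d = 0 := by
      rw [hd, dim_eq_toNat, @Order.krullDim_eq_bot X.scheme (specializationOrder X.scheme).toPreorder hne]
      rfl
    omega
  obtain ⟨x₀, hx₀⟩ := exists_pdim_eq X.mem (k := d - (j + 1)) (by omega)
  let K : X.scheme.Opens := ⟨(closure {x₀})ᶜ, isClosed_closure.isOpen_compl⟩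
  have hK : ContainsFj X j K := fun z hz hzx => by
    have h1 := codim_le_of_specializes X (specializes_iff_mem_closure.2 hzx)
    simp only [WeilCoh.codim] at h1 hz
    omega
  have hx₀K : x₀ ∉ K := fun h => h (subset_closure rfl)
  have hdim : ∀ {U Y : X.scheme.Opens}, ContainsFj X j U → ContainsFj X (j + 1 + m) Y → x₀ ∉ U →
      WeilCoh.dim (pairZ X (U ⊓ Y) Y).scheme = d - (j + 1) := fun {U Y} hU hY hx => by
    refine dim_pairZ_eq (fun z hzY hz => ?_)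
      ⟨x₀, hY x₀ (by simp only [WeilCoh.codim]; omega), fun h => hx h.1, hx₀⟩
    have h2 := pdim_le_dim X.mem z
    by_contra h3
    refine hz ⟨hU z ?_, hzY⟩
    simp only [WeilCoh.codim]
    omega
  constructor
  · refine (injective_iff_map_eq_zero _).2 fun α hα => ?_
    obtain ⟨Y₁, b, rfl⟩ := exists_rep T M i n α
    rw [fjRes_ι] at hα
    obtain ⟨U₀, hU₀, hb⟩ := ι_eq_zero T (fjIdx (containsFj_mono X h _ Y₁.2.1)) M i n b hα
    have hU : ContainsFj X j (U₀.1 ⊓ K) := containsFj_inf U₀.2.1 hK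
    let Uw : X.scheme.Opens := U₀.1 ⊓ K
    have hx : x₀ ∉ Uw := fun h => hx₀K h.2
    have hUle : Uw ≤ Y₁.1 := inf_le_left.trans hU₀
    -- the closed subscheme
    let Z := pairZ X (Uw ⊓ ⊤) ⊤
    let ι : Z.scheme ⟶ X.scheme := pairι X (Uw ⊓ ⊤) ⊤ ≫ X.resTop.hom
    have : IsIso X.resTop.hom := inferInstanceAs (IsIso X.scheme.topIso.hom)
    have hdZ : WeilCoh.dim Z.scheme = d - (j + 1) := hdim hU (containsFj_top X _) hx
    have hY₁ := containsFj_dim X Y₁.2.1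
    have hdZ₁ : WeilCoh.dim (pairZ X (Uw ⊓ ⊤ ⊓ Y₁.1) Y₁.1).scheme = d - (j + 1) :=
      hdim (containsFj_inf hU (containsFj_top X _)) Y₁.2.1 (fun h => hx h.1)
    let p₁ : pairZ X (Uw ⊓ ⊤ ⊓ Y₁.1) Y₁.1 ⟶ Z := pairMap X le_top (hdZ₁.trans hdZ.symm)
    let V₁ : Z.scheme.Opens := p₁.hom.opensRange
    have hV₁ : ContainsFj Z m V₁ := fun z hz => by
      have hzY : ι z ∈ Y₁.1 := Y₁.2.1 _ (by
        simp only [WeilCoh.codim] at hz ⊢
        rw [← pdim_closedImmersion ι z]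
        omega)
      show z ∈ Set.range (pairMapHom X le_top)
      rw [range_pairMapHom, Set.mem_preimage, range_homOfLE, Set.mem_preimage]
      exact hzY
    have hUd : WeilCoh.dim (↑(Uw ⊓ ⊤ ⊓ Y₁.1) : Scheme.{u}) = WeilCoh.dim (Y₁.1 : Scheme.{u}) :=
      (containsFj_dim X (containsFj_inf (containsFj_inf hU (containsFj_top X _))
        (containsFj_mono X h _ Y₁.2.1))).trans hY₁.symm
    have hr : ∀ {U' Y' : X.scheme.Opens}, WeilCoh.dim (pairZ X U' Y').scheme = d - (j + 1) →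
        WeilCoh.dim (Y' : Scheme.{u}) = d →
        relCodim (pairZ X U' Y').scheme (X.res Y').scheme = (j : ℤ) + 1 := fun {U' Y'} h1 h2 => by
      show (WeilCoh.dim (Y' : Scheme.{u}) : ℤ) - (WeilCoh.dim (pairZ X U' Y').scheme : ℤ) = _
      rw [h1, h2]; omega
    obtain ⟨c, hc⟩ := exists_push_of_pull_j (pairDec X (U := Uw ⊓ ⊤ ⊓ Y₁.1) inf_le_right hUd)
      (T := T) (M := M) (i := i - 2 * ((j : ℤ) + 1)) (n := n - ((j : ℤ) + 1)) (i' := i) (n' := n)
      (by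
        show i = _ + 2 * relCodim (pairZ X (Uw ⊓ ⊤ ⊓ Y₁.1) Y₁.1).scheme (X.res Y₁.1).scheme
        rw [hr hdZ₁ hY₁]; ring)
      (by
        show n = _ + relCodim (pairZ X (Uw ⊓ ⊤ ⊓ Y₁.1) Y₁.1).scheme (X.res Y₁.1).scheme
        rw [hr hdZ₁ hY₁]; ring)
      (b := b) (by
        have hd1 : WeilCoh.dim (↑(Uw ⊓ ⊤ ⊓ Y₁.1) : Scheme.{u}) =
            WeilCoh.dim (U₀.1 : Scheme.{u}) := hUd.trans (hY₁.trans U₀.2.2.symm)
        have e := pull_pull T M (X.resLE (U := Uw ⊓ ⊤ ⊓ Y₁.1) (U' := U₀.1)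
          (inf_le_left.trans (inf_le_left.trans inf_le_left)) hd1)
          (X.resLE hU₀ (U₀.2.2.trans hY₁.symm)) i n b
        rw [resLE_resLE] at e
        exact e.symm.trans ((congrArg _ hb).trans (map_zero _)))
    let g := liftOpen p₁ V₁ (Set.Subset.refl _) (containsFj_dim Z hV₁)
    have : IsIso g.hom := isIso_liftOpen p₁ V₁ _ rfl
    obtain ⟨c₁, hc₁⟩ := (pull_bijective T M g _ _).2 c
    obtain ⟨V₂, hV₂, hc₂⟩ := ι_eq_zero T (fjIdx hV₁) M _ _ c₁ ((hZ Z ι (by omega)).1 _)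
    obtain ⟨Y₂, hY₂₁, -, hY₂, hW⟩ := exists_open_avoid (X := X) j m hUle Y₁.2.1
      (e := d - (j + 1)) (by omega) ι (by
        rw [Set.disjoint_left]
        rintro _ ⟨z, rfl⟩ hz
        exact pairι_notMem X z ⟨hz, trivial⟩) hdZ V₂.2.1
    have hdZ₂ : WeilCoh.dim (pairZ X (Uw ⊓ ⊤ ⊓ Y₁.1 ⊓ Y₂) Y₂).scheme = d - (j + 1) :=
      hdim (containsFj_inf (containsFj_inf hU (containsFj_top X _))
        (containsFj_mono X h _ Y₁.2.1)) hY₂ (fun h => hx h.1.1)
    let p₂ := pairMap X hY₂₁ (hdZ₂.trans hdZ₁.symm)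
    have hsub : Set.range (p₂ ≫ p₁).hom ⊆ V₂.1 := by
      rintro _ ⟨z, rfl⟩
      refine hW _ ?_
      have e1 := congr($(pairMapHom_ι X (U := Uw ⊓ ⊤) (le_top : Y₁.1 ≤ ⊤)) (p₂.hom z))
      have e2 := congr($(pairMapHom_ι X (U := Uw ⊓ ⊤ ⊓ Y₁.1) hY₂₁) z)
      show (⊤ : X.scheme.Opens).ι (pairι X (Uw ⊓ ⊤) ⊤ (pairMapHom X le_top (p₂.hom z))) ∈ Y₂
      rw [show pairι X (Uw ⊓ ⊤) ⊤ (pairMapHom X le_top (p₂.hom z)) =
        X.scheme.homOfLE le_top (pairι X (Uw ⊓ ⊤ ⊓ Y₁.1) Y₁.1 (p₂.hom z)) from e1,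
        show pairι X (Uw ⊓ ⊤ ⊓ Y₁.1) Y₁.1 (p₂.hom z) =
        X.scheme.homOfLE hY₂₁ (pairι X (Uw ⊓ ⊤ ⊓ Y₁.1 ⊓ Y₂) Y₂ z) from e2,
        ← Scheme.Hom.comp_apply, Scheme.homOfLE_ι, ← Scheme.Hom.comp_apply, Scheme.homOfLE_ι]
      exact opens_ι_mem X Y₂ _
    have hk : liftOpen (p₂ ≫ p₁) V₂.1 hsub V₂.2.2 ≫
        Z.resLE hV₂ (V₂.2.2.trans (fjIdx hV₁).2.2.symm) = p₂ ≫ g := by
      refine cancel_resι (hd := containsFj_dim Z hV₁) ?_
      rw [Category.assoc, Category.assoc, resLE_resι, liftOpen_fac, liftOpen_fac]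
    have hz : (T.pull p₂ M _ _).hom c = 0 := by
      rw [← hc₁, pull_pull, ← hk, ← pull_pull]
      exact (congrArg _ hc₂).trans (map_zero _)
    have hd2 : WeilCoh.dim (Y₂ : Scheme.{u}) = WeilCoh.dim (Y₁.1 : Scheme.{u}) :=
      (containsFj_dim X hY₂).trans hY₁.symm
    have e := pull_push_pairMap X hY₂₁ T M hd2 (hdZ₂.trans hdZ₁.symm)
      (i := i - 2 * ((j : ℤ) + 1)) (n := n - ((j : ℤ) + 1)) (i' := i) (n' := n)
      (by rw [hr hdZ₁ hY₁]; ring) (by rw [hr hdZ₁ hY₁]; ring)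
      (by rw [hr hdZ₂ (containsFj_dim X hY₂)]; ring)
      (by rw [hr hdZ₂ (containsFj_dim X hY₂)]; ring) c
    rw [← fjι_res (U := Y₁) (U' := fjIdx hY₂) hY₂₁ hd2 i n b, ← hc]
    refine (congrArg _ (e.trans ?_)).trans (map_zero _)
    exact (congrArg _ hz).trans (map_zero _)
  · intro α
    obtain ⟨U₀, a, rfl⟩ := exists_rep T M i n α
    let Uw : X.scheme.Opens := U₀.1 ⊓ K
    have hU : ContainsFj X j Uw := containsFj_inf U₀.2.1 hK
    have hx : x₀ ∉ Uw := fun h => hx₀K h.2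
    have hU₁ : ContainsFj X j (Uw ⊓ ⊤) := containsFj_inf hU (containsFj_top X _)
    let Z := pairZ X (Uw ⊓ ⊤) ⊤
    let ι : Z.scheme ⟶ X.scheme := pairι X (Uw ⊓ ⊤) ⊤ ≫ X.resTop.hom
    have : IsIso X.resTop.hom := inferInstanceAs (IsIso X.scheme.topIso.hom)
    have hdZ : WeilCoh.dim Z.scheme = d - (j + 1) := hdim hU (containsFj_top X _) hx
    have hr : ∀ {U' Y' : X.scheme.Opens}, WeilCoh.dim (pairZ X U' Y').scheme = d - (j + 1) →
        WeilCoh.dim (Y' : Scheme.{u}) = d →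
        relCodim (pairZ X U' Y').scheme (X.res Y').scheme = (j : ℤ) + 1 := fun {U' Y'} h1 h2 => by
      show (WeilCoh.dim (Y' : Scheme.{u}) : ℤ) - (WeilCoh.dim (pairZ X U' Y').scheme : ℤ) = _
      rw [h1, h2]; omega
    have ht : WeilCoh.dim ((⊤ : X.scheme.Opens) : Scheme.{u}) = d := dim_top X.scheme
    have hdU : WeilCoh.dim (↑(Uw ⊓ ⊤) : Scheme.{u}) =
        WeilCoh.dim ((⊤ : X.scheme.Opens) : Scheme.{u}) := (containsFj_dim X hU₁).trans ht.symm
    let D := pairDec X (U := Uw ⊓ ⊤) (Y := ⊤) inf_le_right hdU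
    have hiD : i + 1 - 2 * ((j : ℤ) + 1) = i + 1 - 2 * D.codim := by
      show _ = i + 1 - 2 * relCodim (pairZ X (Uw ⊓ ⊤) ⊤).scheme (X.res ⊤).scheme
      rw [hr hdZ ht]
    have hnD : n - ((j : ℤ) + 1) = n - D.codim := by
      show _ = n - relCodim (pairZ X (Uw ⊓ ⊤) ⊤).scheme (X.res ⊤).scheme
      rw [hr hdZ ht]
    have hd1 : WeilCoh.dim (↑(Uw ⊓ ⊤) : Scheme.{u}) = WeilCoh.dim (U₀.1 : Scheme.{u}) :=
      hdU.trans (ht.trans U₀.2.2.symm)
    let a' := (T.pull (X.resLE (U := Uw ⊓ ⊤) (U' := U₀.1) (inf_le_left.trans inf_le_left) hd1)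
      M i n).hom a
    let r := (T.res D M i n _ _ hiD hnD).hom a'
    obtain ⟨V₂, hV₂, hc₂⟩ := ι_eq_zero T (fjIdx (containsFj_top Z m)) M _ _
      ((T.pull Z.resTop M _ _).hom r) ((hZ Z ι (by omega)).2 _)
    obtain ⟨Y₂, -, hUY₂, hY₂, hW⟩ := exists_open_avoid (X := X) j m
      (le_top : Uw ⊓ ⊤ ≤ (⊤ : X.scheme.Opens)) (containsFj_top X _)
      (e := d - (j + 1)) (by omega) ι (by
        rw [Set.disjoint_left]
        rintro _ ⟨z, rfl⟩ hz
        exact pairι_notMem X z hz) hdZ V₂.2.1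
    have hU₂ : ContainsFj X j (Uw ⊓ ⊤ ⊓ Y₂) := containsFj_inf hU₁ (containsFj_mono X h _ hY₂)
    have hdZ₂ : WeilCoh.dim (pairZ X (Uw ⊓ ⊤ ⊓ Y₂) Y₂).scheme = d - (j + 1) :=
      hdim hU₁ hY₂ fun h => hx h.1
    let p₂ := pairMap X (le_top : Y₂ ≤ ⊤) (hdZ₂.trans hdZ.symm)
    have hsub : Set.range p₂.hom ⊆ V₂.1 := by
      rintro _ ⟨z, rfl⟩
      refine hW _ ?_
      show (⊤ : X.scheme.Opens).ι (pairι X (Uw ⊓ ⊤) ⊤ (pairMapHom X le_top z)) ∈ Y₂
      rw [show pairι X (Uw ⊓ ⊤) ⊤ (pairMapHom X le_top z) =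
        X.scheme.homOfLE le_top (pairι X (Uw ⊓ ⊤ ⊓ Y₂) Y₂ z) from
          congr($(pairMapHom_ι X (U := Uw ⊓ ⊤) (le_top : Y₂ ≤ ⊤)) z),
        ← Scheme.Hom.comp_apply, Scheme.homOfLE_ι]
      exact opens_ι_mem X Y₂ _
    have hz : (T.pull p₂ M (i + 1 - 2 * ((j : ℤ) + 1)) (n - ((j : ℤ) + 1))).hom r = 0 := by
      have e0 : liftOpen p₂ V₂.1 hsub V₂.2.2 ≫
          Z.resLE hV₂ (V₂.2.2.trans (dim_top Z.scheme).symm) ≫ Z.resTop = p₂ := by
        rw [show Z.resLE hV₂ (V₂.2.2.trans (dim_top Z.scheme).symm) ≫ Z.resTop =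
          Z.resι V₂.1 V₂.2.2 from resLE_resι Z _ _ (dim_top _)]
        exact liftOpen_fac _ _ _ _
      rw [← e0, ← pull_pull, ← pull_pull]
      exact (congrArg _ hc₂).trans (map_zero _)
    have hdY₂ := containsFj_dim X hY₂
    have hd2 : WeilCoh.dim (↑(Uw ⊓ ⊤ ⊓ Y₂) : Scheme.{u}) = WeilCoh.dim (Y₂ : Scheme.{u}) :=
      (containsFj_dim X hU₂).trans hdY₂.symm
    obtain ⟨b, hb⟩ := exists_pull_of_res _ _ _ ((res_pairMap X (le_top : Y₂ ≤ ⊤) T M inf_le_right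
      hdU hd2 (hdY₂.trans ht.symm) (hdZ₂.trans hdZ.symm) hiD hnD
      (by
        show _ = i + 1 - 2 * relCodim (pairZ X (Uw ⊓ ⊤ ⊓ Y₂) Y₂).scheme (X.res Y₂).scheme
        rw [hr hdZ₂ hdY₂])
      (by
        show _ = n - relCodim (pairZ X (Uw ⊓ ⊤ ⊓ Y₂) Y₂).scheme (X.res Y₂).scheme
        rw [hr hdZ₂ hdY₂]) a').trans hz)
    refine ⟨((T.fjι X (j + 1 + m) i n (fjIdx hY₂)).app M).hom b, ?_⟩
    rw [fjRes_ι]
    have e1 := fjι_res (T := T) (M := M) (P := ContainsFj X j)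
      (U := fjIdx (containsFj_mono X h _ hY₂)) (U' := fjIdx hU₂) inf_le_right hd2 i n b
    refine e1.symm.trans ((congrArg _ hb).trans ?_)
    refine (fjι_res (T := T) (M := M) (P := ContainsFj X j) (U := fjIdx hU₁) (U' := fjIdx hU₂)
      inf_le_left (hd2.trans (hdY₂.trans (containsFj_dim X hU₁).symm)) i n a').trans ?_
    exact fjι_res (T := T) (M := M) (P := ContainsFj X j) (U := U₀) (U' := fjIdx hU₁)
      (inf_le_left.trans inf_le_left) hd1 i n a

end closed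

end Groth.Agent.BMLib
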