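import Groth.Agent.BMLib.PtPush
import Groth.Agent.Curv2Norm.Birational

/-!
The normalisation of the closure of a point.
-/

set_option autoImplicit false

universe u

open AlgebraicGeometry CategoryTheory TopologicalSpace

namespace Groth.Agent.BMLib

open BMCoh

variable {V : ObjectProperty Scheme.{u}} [IsConstructible V]

lemma isFinite_of_isProper_normalization (X : Obj V) (w : X.scheme)
    [IsIntegral (X.ptSub w).scheme]
    [QuasiCompact ((X.ptSub w).scheme.fromSpecStalk (genericPoint (X.ptSub w).scheme))]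
    [QuasiSeparated ((X.ptSub w).scheme.fromSpecStalk (genericPoint (X.ptSub w).scheme))]
    {Y : Scheme.{u}} (e : Y ≅ Curv2.normalization (X.ptSub w).scheme)
    (φ : Y ⟶ X.scheme) [IsProper φ]
    (hφ : φ = e.hom ≫ Curv2.normalizationι (X.ptSub w).scheme ≫ X.ptSubι w) :
    IsFinite (Curv2.normalizationι (X.ptSub w).scheme) := by
  have h1 : IsProper (Curv2.normalizationι (X.ptSub w).scheme ≫ X.ptSubι w) := by
    rw [show Curv2.normalizationι (X.ptSub w).scheme ≫ X.ptSubι w = e.inv ≫ φ by
      rw [hφ, e.inv_hom_id_assoc]]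
    infer_instance
  have : IsProper (Curv2.normalizationι (X.ptSub w).scheme) :=
    IsProper.of_comp _ (X.ptSubι w)
  have := Curv2Norm.isIntegralHom (X.ptSub w).scheme
  exact (IsFinite.iff_isIntegralHom_and_locallyOfFiniteType _).2 ⟨inferInstance, inferInstance⟩

lemma isIso_ptSubι_genericPoint (Y : Obj V) [IsIntegral Y.scheme] :
    IsIso (Y.ptSubι (genericPoint Y.scheme)) := by
  have : Surjective (Y.ptSubι (genericPoint Y.scheme)) := ⟨fun z => by
    have : z ∈ Set.range (Y.ptSubι (genericPoint Y.scheme)) := by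
      rw [range_ptSubι]
      exact specializes_iff_mem_closure.1 (genericPoint_specializes z)
    exact this⟩
  exact isIso_of_isClosedImmersion_of_surjective _

lemma exists_isIso_ptMap (X : Obj V) (w : X.scheme)
    [IsIntegral (X.ptSub w).scheme]
    [QuasiCompact ((X.ptSub w).scheme.fromSpecStalk (genericPoint (X.ptSub w).scheme))]
    [QuasiSeparated ((X.ptSub w).scheme.fromSpecStalk (genericPoint (X.ptSub w).scheme))]
    (Y : Obj V) [IsIntegral Y.scheme] (e : Y.scheme ≅ Curv2.normalization (X.ptSub w).scheme)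
    (φ : Y.scheme ⟶ X.scheme) [IsProper φ]
    (hφ : φ = e.hom ≫ Curv2.normalizationι (X.ptSub w).scheme ≫ X.ptSubι w)
    (h : φ (genericPoint Y.scheme) = w) :
    ∃ W₀ : (X.ptSub w).scheme.Opens, gen X w ∈ W₀ ∧
      IsIso (ptMap φ (genericPoint Y.scheme) w h ∣_ W₀) := by
  have := isFinite_of_isProper_normalization X w e φ hφ
  obtain ⟨W₀, hd, hiso⟩ := Curv2Norm.exists_dense_isIso (X.ptSub w).scheme
  refine ⟨W₀, gen_mem X w hd.nonempty, ?_⟩
  have he : ptMap φ (genericPoint Y.scheme) w h =
      (Y.ptSubι (genericPoint Y.scheme) ≫ e.hom) ≫ Curv2.normalizationι (X.ptSub w).scheme := by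
    rw [← cancel_mono (X.ptSubι w), ptMap_ι, hφ]
    simp only [Category.assoc]
  have := isIso_ptSubι_genericPoint Y
  rw [he, morphismRestrict_comp]
  have h1 : IsIso (Y.ptSubι (genericPoint Y.scheme) ≫ e.hom) := inferInstance
  have h2 : IsIso ((Y.ptSubι (genericPoint Y.scheme) ≫ e.hom) ∣_
      Curv2.normalizationι (X.ptSub w).scheme ⁻¹ᵁ W₀) :=
    MorphismProperty.of_isPullback (P := .isomorphisms Scheme)
      (isPullback_morphismRestrict _ _).flip h1
  exact @IsIso.comp_isIso _ _ _ _ _ _ _ h2 hiso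

end Groth.Agent.BMLib
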