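import Groth.Agent.BMLib.Norm
import Groth.Agent.BMLib.FirstDiff

/-!
The residue of the push-forward from the generic point of a normalisation.
-/

set_option autoImplicit false
set_option linter.unusedSectionVars false

universe u

open AlgebraicGeometry CategoryTheory CategoryTheory.Limits Opposite TopologicalSpace DirectSum

namespace Groth.Agent.BMLib

open BMCoh

variable {V : ObjectProperty Scheme.{u}} [IsConstructible V] {R : Type u} [CommRing R]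
  {A : Coefs R} {T : PreTheory V R A} {M : A.Cat}

theorem resTot_pushCpt_ptPush (hred : ∀ (S : Obj V) (D D'' : Decomp S) (gU : D''.U ⟶ D.U)
      (k : D''.Z.scheme ⟶ D.Z.scheme) [IsClosedImmersion k] [AlgebraicGeometry.Surjective k],
      gU ≫ D.j = D''.j → k ≫ D.i = D''.i →
      ∀ (M : A.Cat) (i n i' n' : ℤ) (hi : i' = i + 1 - 2 * D.codim) (hn : n' = n - D.codim)
        (hi'' : i' = i + 1 - 2 * D''.codim) (hn'' : n' = n - D''.codim)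
        (hk : i' = i' + 2 * relCodim D''.Z.scheme D.Z.scheme)
        (hk' : n' = n' + relCodim D''.Z.scheme D.Z.scheme),
      T.pull gU M i n ≫ T.res D'' M i n i' n' hi'' hn'' ≫ T.push k M i' n' i' n' hk hk' =
        T.res D M i n i' n' hi hn)
    {X Y : Obj V} [IsIntegral Y.scheme] {q : ℕ} (w : X.cdPt q)
    (φ : Y.scheme ⟶ X.scheme) [IsProper φ] [IsIntegralHom φ]
    (hη : WeilCoh.codim Y.scheme (genericPoint Y.scheme) = 0)
    (P : T.PushData X q) (Q : T.ResData X q) (L : T.PtPush φ (genericPoint Y.scheme) w.1)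
    (P' : T.PushData Y 0) (Q' : T.ResData Y 0) (t : Y.cdPt 1 → X.cdPt (q + 1))
    (F : ∀ y : Y.cdPt 1, T.PtPush φ y.1 (t y).1)
    {i n i₁ n₁ i₂ n₂ i₃ n₃ : ℤ}
    (h1 : i₁ = i + 2 * (q : ℤ)) (h1' : n₁ = n + (q : ℤ))
    (h2 : i₂ = i₁ + 1 - 2 * ((q : ℤ) + 1)) (h2' : n₂ = n₁ - ((q : ℤ) + 1))
    (h3 : i₃ = i + 2 * ((0 : ℕ) : ℤ)) (h3' : n₃ = n + ((0 : ℕ) : ℤ))
    (h4 : i₂ = i₃ + 1 - 2 * (((0 : ℕ) : ℤ) + 1)) (h4' : n₂ = n₃ - (((0 : ℕ) : ℤ) + 1))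
    (a : T.ptGp Y (genericPoint Y.scheme) M i n) :
    (Q.tot M i₁ n₁ i₂ n₂ h2 h2').hom ((P.cpt w M i n i₁ n₁ h1 h1').hom ((L.cpt M i n).hom a)) =
      (PreTheory.PtPush.famTot t F M i₂ n₂).hom
        ((Q'.tot M i₃ n₃ i₂ n₂ h4 h4').hom
          ((P'.cpt ⟨genericPoint Y.scheme, hη⟩ M i n i₃ n₃ h3 h3').hom a)) := by
  obtain rfl : i₃ = i := by simpa using h3
  obtain rfl : n₃ = n := by simpa using h3'
  have hη' : WeilCoh.pdim Y.scheme (genericPoint Y.scheme) = WeilCoh.dim Y.scheme := by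
    have := pdim_le_dim Y.mem (genericPoint Y.scheme)
    simp only [WeilCoh.codim] at hη
    omega
  have hd : WeilCoh.dim Y.scheme + q = WeilCoh.dim X.scheme := by
    have h := pdim_map φ (genericPoint Y.scheme)
    rw [L.maps_pt, hη'] at h
    have h2 := w.2
    have h3 := pdim_le_dim X.mem w.1
    simp only [WeilCoh.codim] at h2
    omega
  obtain ⟨W', hW', hW, u, rfl⟩ := exists_rep_preimage L a
  let C : Set X.scheme := X.ptSubι w.1 '' (↑W')ᶜ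
  have hC : IsClosed C :=
    (X.ptSubι w.1).isClosedEmbedding.isClosedMap _ W'.isOpen.isClosed_compl
  let U₀ : X.scheme.Opens := ⟨Cᶜ, hC.isOpen_compl⟩
  have hU₀ : ∀ z, WeilCoh.codim X.scheme z < q + 1 → z ∈ U₀ := by
    rintro _ hz ⟨p, hp, rfl⟩
    have hxp : w.1 ⤳ X.ptSubι w.1 p := by
      rw [specializes_iff_mem_closure, ← range_ptSubι X w.1]; exact ⟨p, rfl⟩
    exact hp (eq_gen X w.1
      (eq_of_specializes_of_codim_le X hxp (by rw [w.2]; omega)).symm ▸ hW')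
  obtain ⟨Y₁, s, -, hY₁, hG₁, hs⟩ := exists_good X (q + 1) U₀ ⊤ hU₀ (fun _ _ => trivial)
  have hYc : ∀ z : Y.scheme, WeilCoh.codim Y.scheme z < 1 → z ∈ φ ⁻¹ᵁ U₀ := fun z hz =>
    hU₀ _ (by rw [codim_map hd]; omega)
  obtain ⟨Yu, sY, hYu₁, hYu, hGu, -⟩ := exists_good Y 1 (φ ⁻¹ᵁ U₀) (φ ⁻¹ᵁ Y₁) hYc
    (fun z hz => hY₁ _ (by rw [codim_map hd]; omega))
  let C' : Set X.scheme := φ '' (↑Yu)ᶜ
  have hC' : IsClosed C' := φ.isClosedMap _ Yu.isOpen.isClosed_compl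
  let Y₀ : X.scheme.Opens := Y₁ ⊓ ⟨C'ᶜ, hC'.isOpen_compl⟩
  have hY₀ : ContainsFj X (q + 1) Y₀ := fun z hz => ⟨hY₁ z hz, by
    rintro ⟨y, hy, rfl⟩
    rw [codim_map hd] at hz
    exact hy (hYu y (by omega))⟩
  have hYle : φ ⁻¹ᵁ Y₀ ≤ Yu := fun y hy => by_contra fun h => hy.2 ⟨y, h, rfl⟩
  have hY₀' : ContainsFj Y 1 (φ ⁻¹ᵁ Y₀) := fun y hy => hY₀ _ (by rw [codim_map hd]; omega)
  let U : X.scheme.Opens := U₀ ⊓ Y₁ ⊓ Y₀
  have hU : ContainsFj X q U := fun z hz =>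
    ⟨⟨hU₀ z (by omega), hY₁ z (by omega)⟩, hY₀ z (by omega)⟩
  have hG : Good X (q + 1) U Y₀ s :=
    hG₁.restrict inf_le_left (containsFj_dim X hY₀) fun z hz => hY₀ z (hG₁.codim_eq z hz).le
  have hU' : ContainsFj Y 0 (φ ⁻¹ᵁ U) := fun z hz => hU _ (by rw [codim_map hd]; omega)
  have heq : φ ⁻¹ᵁ U₀ ⊓ Yu ⊓ φ ⁻¹ᵁ Y₀ = φ ⁻¹ᵁ U := by
    ext z
    exact ⟨fun h => ⟨⟨h.1.1, h.2.1⟩, h.2⟩, fun h => ⟨⟨h.1.1, hYle h.2⟩, h.2⟩⟩
  have hG' : Good Y 1 (φ ⁻¹ᵁ U) (φ ⁻¹ᵁ Y₀) sY := heq ▸ hGu.restrict hYle (containsFj_dim Y hY₀')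
    fun z hz => hY₀' z (hGu.codim_eq z hz).le
  have hwU : w.1 ∈ U := hU _ w.2.le
  have hηU : genericPoint Y.scheme ∈ φ ⁻¹ᵁ U := hU' _ hη.le
  have hsurj : ∀ x ∈ s, ∃ y, φ y = x := fun x hx => by
    obtain ⟨p, -, hp⟩ := not_not.1 ((hs x).1 hx).2
    obtain ⟨p', hp'⟩ := surjective_ptMap L.maps_pt p
    refine ⟨Y.ptSubι _ p', ?_⟩
    rw [← Scheme.Hom.comp_apply, ← ptMap_ι L.maps_pt, Scheme.Hom.comp_apply, hp', hp]
  -- compare the representatives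
  have hle : piece X w.1 U ≤ W' := fun p hp => by_contra fun h => hp.1.1 ⟨p, h, rfl⟩
  have hpe : piece Y (genericPoint Y.scheme) (φ ⁻¹ᵁ U) =
      ptMap φ (genericPoint Y.scheme) w.1 L.maps_pt ⁻¹ᵁ piece X w.1 U := by
    ext p
    show φ (Y.ptSubι _ p) ∈ U ↔ X.ptSubι w.1 (ptMap φ _ _ L.maps_pt p) ∈ U
    rw [← Scheme.Hom.comp_apply (ptMap φ _ _ L.maps_pt), ptMap_ι]
    rfl
  have hle' : piece Y (genericPoint Y.scheme) (φ ⁻¹ᵁ U) ≤
      ptMap φ (genericPoint Y.scheme) w.1 L.maps_pt ⁻¹ᵁ W' :=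
    hpe.le.trans ((ptMap φ (genericPoint Y.scheme) w.1 L.maps_pt).preimage_mono hle)
  obtain ⟨f, hf⟩ := RedSub.exists_lift_closed (pieceι X w.1 U)
    (pieceι Y (genericPoint Y.scheme) (φ ⁻¹ᵁ U) ≫ φ ∣_ U) (range_pieceι_comp L.maps_pt)
  have hfp : IsProper f :=
    have : IsProper (f ≫ pieceι X w.1 U) := by rw [hf]; infer_instance
    IsProper.of_comp f (pieceι X w.1 U)
  let e := pieceIdx Y (genericPoint Y.scheme) hηU
  let e' := pieceIdx X w.1 hwU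
  have hf0 : relCodim ((Y.ptSub (genericPoint Y.scheme)).res e.1).scheme
      ((X.ptSub w.1).res e'.1).scheme = 0 := by
    show (WeilCoh.dim (piece X w.1 U : Scheme.{u}) : ℤ) -
      (WeilCoh.dim (piece Y (genericPoint Y.scheme) (φ ⁻¹ᵁ U) : Scheme.{u}) : ℤ) = 0
    rw [dim_piece X _ hwU, dim_piece Y _ hηU, ← L.maps_pt, pdim_map, sub_self]
  have hdu : WeilCoh.dim (piece Y (genericPoint Y.scheme) (φ ⁻¹ᵁ U) : Scheme.{u}) =
      WeilCoh.dim ((ptMap φ (genericPoint Y.scheme) w.1 L.maps_pt ⁻¹ᵁ W' : _) : Scheme.{u}) :=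
    e.2.2.trans (ptI (genericPoint Y.scheme) _ hW).2.2.symm
  let u' := (T.pull ((Y.ptSub (genericPoint Y.scheme)).resLE hle' hdu) M i₃ n₃).hom u
  rw [← show ((T.ptι Y (genericPoint Y.scheme) i₃ n₃ e).app M).hom u' =
      ((T.ptι Y (genericPoint Y.scheme) i₃ n₃ (ptI (genericPoint Y.scheme) _ hW)).app M).hom u from
    fjι_res (T := T) (M := M) (U := ptI (genericPoint Y.scheme) _ hW) (U' := e) hle' hdu i₃ n₃ u]
  have hL := congr($(L.cpt_spec M i₃ n₃ e e' f (by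
    show f ≫ (piece X w.1 U).ι ≫ X.ptSubι w.1 = _
    rw [← morphismRestrict_ι, reassoc_of% hf, morphismRestrict_ι, ← Category.assoc,
      morphismRestrict_ι, Category.assoc]) (by rw [hf0]; ring) (by rw [hf0]; ring)).hom u')
  have hr1 : relCodim ((X.ptSub w.1).res e'.1).scheme (X.res (fjIdx hU).1).scheme = (q : ℤ) := by
    have h2 := w.2
    have h3 := pdim_le_dim X.mem w.1
    simp only [WeilCoh.codim] at h2
    show (WeilCoh.dim (U : Scheme.{u}) : ℤ) - (WeilCoh.dim (piece X w.1 U : Scheme.{u}) : ℤ) = q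
    rw [containsFj_dim X hU, dim_piece X _ hwU]
    omega
  have hr2 : relCodim ((Y.ptSub (genericPoint Y.scheme)).res e.1).scheme
      (Y.res (fjIdx hU').1).scheme = 0 := by
    show (WeilCoh.dim ((φ ⁻¹ᵁ U : _) : Scheme.{u}) : ℤ) -
      (WeilCoh.dim (piece Y (genericPoint Y.scheme) (φ ⁻¹ᵁ U) : Scheme.{u}) : ℤ) = 0
    rw [containsFj_dim Y hU', dim_piece Y _ hηU, hη', sub_self]
  have hP := congr($(P.cpt_spec w M i₃ n₃ i₁ n₁ h1 h1' (fjIdx hU) e' (pieceι X w.1 U)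
    (morphismRestrict_ι _ _) (by rw [hr1]; exact h1) (by rw [hr1]; exact h1')).hom
    ((T.push (X := (Y.ptSub (genericPoint Y.scheme)).res e.1) (Y := (X.ptSub w.1).res e'.1) f
      M i₃ n₃ i₃ n₃ (by rw [hf0]; ring) (by rw [hf0]; ring)).hom u'))
  have hP' := congr($(P'.cpt_spec ⟨genericPoint Y.scheme, hη⟩ M i₃ n₃ i₃ n₃ h3 h3'
    (fjIdx hU') e (pieceι Y (genericPoint Y.scheme) (φ ⁻¹ᵁ U))
    (morphismRestrict_ι _ _) (by rw [hr2]; ring) (by rw [hr2]; ring)).hom u')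
  refine (congrArg (Q.tot M i₁ n₁ i₂ n₂ h2 h2').hom ((congrArg _ hL).trans hP)).trans ?_
  refine Eq.trans ?_ (congrArg (PreTheory.PtPush.famTot t F M i₂ n₂).hom
    (congrArg (Q'.tot M i₃ n₃ i₂ n₂ h4 h4').hom hP')).symm
  have hr3 : relCodim (Y.res (φ ⁻¹ᵁ U)).scheme (X.res U).scheme = (q : ℤ) := by
    show (WeilCoh.dim (U : Scheme.{u}) : ℤ) - (WeilCoh.dim ((φ ⁻¹ᵁ U : _) : Scheme.{u}) : ℤ) = q
    rw [containsFj_dim X hU, containsFj_dim Y hU', ← hd]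
    push_cast; ring
  have key := resTot_push hred hd Q Q' t F hG hU hY₀ hG' hU' hsurj h1 h1' h2 h2' h4 h4'
    (by rw [hr3]; exact h1) (by rw [hr3]; exact h1')
    ((T.push (X := (Y.ptSub (genericPoint Y.scheme)).res e.1) (Y := Y.res (φ ⁻¹ᵁ U))
      (pieceι Y (genericPoint Y.scheme) (φ ⁻¹ᵁ U)) M i₃ n₃ i₃ n₃
      (by rw [hr2]; ring) (by rw [hr2]; ring)).hom u')
  refine Eq.trans ?_ key
  refine congrArg _ ?_
  show ((T.fjι X q i₁ n₁ (fjIdx hU)).app M).hom _ = _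
  refine congrArg _ ?_
  have p3 : IsProper (pieceι Y (genericPoint Y.scheme) (φ ⁻¹ᵁ U) ≫ φ ∣_ U) := inferInstance
  have h5 : relCodim ((Y.ptSub (genericPoint Y.scheme)).res e.1).scheme (X.res U).scheme = (q : ℤ) := by
    simp only [relCodim] at hr3 hr2 ⊢
    show (WeilCoh.dim (U : Scheme.{u}) : ℤ) - _ = q
    omega
  refine (push_push T M (X := (Y.ptSub (genericPoint Y.scheme)).res e.1)
    (Y := (X.ptSub w.1).res e'.1) (Z := X.res U) (f := f)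
    (g := pieceι X w.1 U) (fg := pieceι Y (genericPoint Y.scheme) (φ ⁻¹ᵁ U) ≫ φ ∣_ U) hf
    _ _ _ _ (by rw [h5]; exact h1) (by rw [h5]; exact h1') _).trans ?_
  exact (push_push T M (X := (Y.ptSub (genericPoint Y.scheme)).res e.1)
    (Y := Y.res (φ ⁻¹ᵁ U)) (Z := X.res U)
    (f := pieceι Y (genericPoint Y.scheme) (φ ⁻¹ᵁ U)) (g := φ ∣_ U)
    (fg := pieceι Y (genericPoint Y.scheme) (φ ⁻¹ᵁ U) ≫ φ ∣_ U) rfl _ _ _ _ _ _ _).symm

end Groth.Agent.BMLib
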