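import Groth.Agent.BMLib.Gysin
import Mathlib.AlgebraicGeometry.Morphisms.ClosedImmersion
import Mathlib.AlgebraicGeometry.Restrict

/-!
The decomposition attached to nested opens, and configurations of disjoint closed pieces.
-/

set_option autoImplicit false
set_option linter.unusedSectionVars false

universe u

open AlgebraicGeometry CategoryTheory CategoryTheory.Limits Opposite TopologicalSpace

namespace Groth.Agent.BMLib

open BMCoh

variable {V : ObjectProperty Scheme.{u}} [IsConstructible V] (X : Obj V)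

/-- The complement of `U` in `Y`. -/
def pairSet (U Y : X.scheme.Opens) : Closeds (X.res Y).scheme :=
  ⟨Y.ι ⁻¹' (U : Set X.scheme)ᶜ, U.isOpen.isClosed_compl.preimage Y.ι.continuous⟩

/-- The complement of `U` in `Y` with its reduced structure. -/
noncomputable abbrev pairZ (U Y : X.scheme.Opens) : Obj V :=
  ⟨(Scheme.IdealSheafData.vanishingIdeal (pairSet X U Y)).subscheme,
    IsConstructible.of_isClosedImmersion
      (Scheme.IdealSheafData.vanishingIdeal (pairSet X U Y)).subschemeι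
      (h := inferInstance) (X.res Y).mem⟩

/-- The inclusion of the complement of `U` in `Y` into `Y`. -/
noncomputable abbrev pairι (U Y : X.scheme.Opens) : (pairZ X U Y).scheme ⟶ (X.res Y).scheme :=
  (Scheme.IdealSheafData.vanishingIdeal (pairSet X U Y)).subschemeι

instance (U Y : X.scheme.Opens) : IsReduced (pairZ X U Y).scheme :=
  RedSub.isReduced_vanishingIdeal _

lemma range_pairι (U Y : X.scheme.Opens) :
    Set.range (pairι X U Y) = Y.ι ⁻¹' (U : Set X.scheme)ᶜ :=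
  RedSub.range_vanishingIdeal_subschemeι _

lemma pairι_notMem {U Y : X.scheme.Opens} (z : (pairZ X U Y).scheme) :
    Y.ι (pairι X U Y z) ∉ U := by
  have h : pairι X U Y z ∈ Set.range (pairι X U Y) := ⟨z, rfl⟩
  rw [range_pairι] at h
  exact h

lemma opens_ι_mem (Y : X.scheme.Opens) (y : (X.res Y).scheme) : Y.ι y ∈ Y := by
  have : Y.ι y ∈ Set.range Y.ι := ⟨y, rfl⟩
  rwa [Scheme.Opens.range_ι] at this

lemma pdim_pairZ {U Y : X.scheme.Opens} (z : (pairZ X U Y).scheme) :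
    WeilCoh.pdim (pairZ X U Y).scheme z = WeilCoh.pdim X.scheme (Y.ι (pairι X U Y z)) := by
  rw [pdim_closedImmersion (pairι X U Y) z, pdim_openImmersion X Y.ι]

lemma range_homOfLE {U Y : X.scheme.Opens} (h : U ≤ Y) :
    Set.range (X.scheme.homOfLE h) = Y.ι ⁻¹' (U : Set X.scheme) := by
  ext y
  constructor
  · rintro ⟨u, rfl⟩
    show Y.ι (X.scheme.homOfLE h u) ∈ U
    rw [← Scheme.Hom.comp_apply, Scheme.homOfLE_ι]
    exact opens_ι_mem X U u
  · intro hy
    obtain ⟨u, hu⟩ : Y.ι y ∈ Set.range U.ι := by rw [Scheme.Opens.range_ι]; exact hy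
    refine ⟨u, Y.ι.isOpenEmbedding.injective ?_⟩
    rw [← Scheme.Hom.comp_apply, Scheme.homOfLE_ι, hu]

/-- The decomposition of `Y` into `U` and its reduced complement. -/
noncomputable def pairDec {U Y : X.scheme.Opens} (h : U ≤ Y)
    (hd : WeilCoh.dim (U : Scheme.{u}) = WeilCoh.dim (Y : Scheme.{u})) : Decomp (X.res Y) where
  Z := pairZ X U Y
  U := X.res U
  i := pairι X U Y
  closedImm := inferInstance
  j := X.resLE h hd
  range_eq := by
    show Set.range (X.scheme.homOfLE h) = _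
    rw [range_homOfLE, range_pairι, Set.preimage_compl, compl_compl]

lemma resLE_resLE {U U' U'' : X.scheme.Opens} (h : U ≤ U') (h' : U' ≤ U'') (hd) (hd') :
    X.resLE h hd ≫ X.resLE h' hd' = X.resLE (h.trans h') (hd.trans hd') :=
  Hom.ext (Scheme.homOfLE_homOfLE X.scheme h h')

lemma resLE_resι {U U' : X.scheme.Opens} (h : U ≤ U') (hd) (hd') :
    X.resLE h hd ≫ X.resι U' hd' = X.resι U (hd.trans hd') :=
  Hom.ext (Scheme.homOfLE_ι X.scheme h)

lemma resLE_self {U : X.scheme.Opens} (h : U ≤ U) (hd) : X.resLE h hd = 𝟙 (X.res U) :=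
  Hom.ext (Scheme.homOfLE_rfl _ _)

section pairMap

variable {U Y Y' : X.scheme.Opens} (hY : Y' ≤ Y)

lemma range_pairι_homOfLE :
    Set.range (pairι X (U ⊓ Y') Y' ≫ X.scheme.homOfLE hY) ⊆ Set.range (pairι X U Y) := by
  rintro _ ⟨z, rfl⟩
  rw [range_pairι, Set.mem_preimage, ← Scheme.Hom.comp_apply, Category.assoc, Scheme.homOfLE_ι,
    Scheme.Hom.comp_apply]
  exact fun h => pairι_notMem X z ⟨h, opens_ι_mem X Y' _⟩

/-- The inclusion of complements. -/
noncomputable def pairMapHom : (pairZ X (U ⊓ Y') Y').scheme ⟶ (pairZ X U Y).scheme :=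
  (RedSub.exists_lift_closed (pairι X U Y) (pairι X (U ⊓ Y') Y' ≫ X.scheme.homOfLE hY)
    (range_pairι_homOfLE X hY)).choose

@[reassoc (attr := simp)]
lemma pairMapHom_ι :
    pairMapHom X (U := U) hY ≫ pairι X U Y = pairι X (U ⊓ Y') Y' ≫ X.scheme.homOfLE hY :=
  (RedSub.exists_lift_closed (pairι X U Y) (pairι X (U ⊓ Y') Y' ≫ X.scheme.homOfLE hY)
    (range_pairι_homOfLE X hY)).choose_spec

lemma range_pairMapHom :
    Set.range (pairMapHom X (U := U) hY) = pairι X U Y ⁻¹' Set.range (X.scheme.homOfLE hY) := by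
  ext z
  constructor
  · rintro ⟨w, rfl⟩
    exact ⟨pairι X (U ⊓ Y') Y' w, congr($((pairMapHom_ι X hY).symm) w)⟩
  · rintro ⟨y, hy⟩
    obtain ⟨w, hw⟩ : y ∈ Set.range (pairι X (U ⊓ Y') Y') := by
      rw [range_pairι, Set.mem_preimage]
      intro h
      refine pairι_notMem X z ?_
      rw [← hy, ← Scheme.Hom.comp_apply, Scheme.homOfLE_ι]
      exact h.1
    refine ⟨w, (pairι X U Y).isClosedEmbedding.injective ?_⟩
    rw [← hy, ← hw]
    exact congr($(pairMapHom_ι X hY) w)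

instance : IsOpenImmersion (pairMapHom X (U := U) hY) := by
  have : IsImmersion (pairMapHom X (U := U) hY ≫ pairι X U Y) := by
    rw [pairMapHom_ι]; infer_instance
  have : IsImmersion (pairMapHom X (U := U) hY) := .of_comp _ (pairι X U Y)
  refine RedSub.isOpenImmersion_of_isOpen_range _ ?_
  rw [range_pairMapHom]
  exact (X.scheme.homOfLE hY).isOpenEmbedding.isOpen_range.preimage (pairι X U Y).continuous

lemma isPullback_pairMap :
    IsPullback (pairMapHom X (U := U) hY) (pairι X (U ⊓ Y') Y') (pairι X U Y)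
      (X.scheme.homOfLE hY) :=
  (IsOpenImmersion.isPullback _ _ _ _ (pairMapHom_ι X hY)
    (Opens.ext (range_pairMapHom X hY).symm)).flip

/-- The inclusion of complements, as a morphism of objects. -/
noncomputable def pairMap
    (hZ : WeilCoh.dim (pairZ X (U ⊓ Y') Y').scheme = WeilCoh.dim (pairZ X U Y).scheme) :
    pairZ X (U ⊓ Y') Y' ⟶ pairZ X U Y :=
  ⟨pairMapHom X hY, inferInstance, hZ⟩

variable {R : Type u} [CommRing R] {A : Coefs R} (T : PreTheory V R A) (M : A.Cat)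

lemma res_pairMap (h : U ≤ Y) (hd : WeilCoh.dim (U : Scheme.{u}) = WeilCoh.dim (Y : Scheme.{u}))
    (hd' : WeilCoh.dim (↑(U ⊓ Y') : Scheme.{u}) = WeilCoh.dim (Y' : Scheme.{u}))
    (hYd : WeilCoh.dim (Y' : Scheme.{u}) = WeilCoh.dim (Y : Scheme.{u}))
    (hZ : WeilCoh.dim (pairZ X (U ⊓ Y') Y').scheme = WeilCoh.dim (pairZ X U Y).scheme)
    {i n i' n' : ℤ} (hi hn hi' hn') (a : T.gp (X.res U) M i n) :
    (T.res (pairDec X (U := U ⊓ Y') inf_le_right hd') M i n i' n' hi' hn').hom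
        ((T.pull (X.resLE (U := U ⊓ Y') (U' := U) inf_le_left
          (hd'.trans (hYd.trans hd.symm))) M i n).hom a) =
      (T.pull (pairMap X hY hZ) M i' n').hom
        ((T.res (pairDec X h hd) M i n i' n' hi hn).hom a) :=
  (congr($(T.res_pull (pairDec X h hd) (pairDec X (U := U ⊓ Y') inf_le_right hd')
    (X.resLE hY hYd) (pairMap X hY hZ) (X.resLE inf_le_left (hd'.trans (hYd.trans hd.symm)))
    (pairMapHom_ι X hY) ((resLE_resLE X inf_le_left h _ hd).trans
      (resLE_resLE X inf_le_right hY hd' hYd).symm) M i n i' n' hi hn hi' hn').hom a)).symm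

lemma pull_push_pairMap
    (hYd : WeilCoh.dim (Y' : Scheme.{u}) = WeilCoh.dim (Y : Scheme.{u}))
    (hZ : WeilCoh.dim (pairZ X (U ⊓ Y') Y').scheme = WeilCoh.dim (pairZ X U Y).scheme)
    {i n i' n' : ℤ} (hi hn hi' hn') (a : T.gp (pairZ X U Y) M i n) :
    (T.pull (X.resLE hY hYd) M i' n').hom ((T.push (pairι X U Y) M i n i' n' hi hn).hom a) =
      (T.push (pairι X (U ⊓ Y') Y') M i n i' n' hi' hn').hom
        ((T.pull (pairMap X hY hZ) M i n).hom a) :=
  pull_push T M (pairι X U Y) (pairι X (U ⊓ Y') Y') (X.resLE hY hYd) (pairMap X hY hZ) (isPullback_pairMap X (U := U) hY) hi hn hi' hn' a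

end pairMap

section piece

variable (x : X.scheme)

/-- The part of the closure of `x` lying in `Y`. -/
noncomputable abbrev piece (Y : X.scheme.Opens) : (X.ptSub x).scheme.Opens := X.ptSubι x ⁻¹ᵁ Y

lemma gen_mem_piece {Y : X.scheme.Opens} (h : x ∈ Y) : gen X x ∈ piece X x Y := by
  show X.ptSubι x (gen X x) ∈ Y
  rwa [ι_gen]

/-- The part of the closure of `x` lying in `Y`, as an index. -/
noncomputable abbrev pieceIdx {Y : X.scheme.Opens} (h : x ∈ Y) : ptIdx X x :=
  ptI x (piece X x Y) (gen_mem_piece X x h)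

/-- The closed immersion of the part of the closure of `x` lying in `Y` into `Y`. -/
noncomputable abbrev pieceι (Y : X.scheme.Opens) :
    ((X.ptSub x).res (piece X x Y)).scheme ⟶ (X.res Y).scheme :=
  X.ptSubι x ∣_ Y

lemma dim_piece {Y : X.scheme.Opens} (h : x ∈ Y) :
    WeilCoh.dim (piece X x Y : Scheme.{u}) = WeilCoh.pdim X.scheme x :=
  (dim_open_ptSub X x _ ⟨gen X x, gen_mem_piece X x h⟩).trans (dim_ptSub X x)

lemma specializes_pieceι {Y : X.scheme.Opens} (p : ((X.ptSub x).res (piece X x Y)).scheme) :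
    x ⤳ Y.ι (pieceι X x Y p) := by
  have h : Y.ι (pieceι X x Y p) ∈ closure ({x} : Set X.scheme) := by
    rw [← range_ptSubι X x]
    exact ⟨(piece X x Y).ι p, congr($((morphismRestrict_ι (X.ptSubι x) Y).symm) p)⟩
  exact specializes_iff_mem_closure.2 h

lemma exists_pieceι_eq {Y : X.scheme.Opens} (y : (X.res Y).scheme) (h : x ⤳ Y.ι y) :
    ∃ p, pieceι X x Y p = y := by
  obtain ⟨q, hq⟩ : Y.ι y ∈ Set.range (X.ptSubι x) := by
    rw [range_ptSubι]; exact specializes_iff_mem_closure.1 h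
  obtain ⟨p, hp⟩ : q ∈ Set.range (piece X x Y).ι := by
    rw [Scheme.Opens.range_ι]
    show X.ptSubι x q ∈ Y
    rw [hq]
    exact opens_ι_mem X Y y
  refine ⟨p, Y.ι.isOpenEmbedding.injective ?_⟩
  rw [← Scheme.Hom.comp_apply, morphismRestrict_ι, Scheme.Hom.comp_apply, hp, hq]

lemma pieceι_resLE {Y Y' : X.scheme.Opens} (h : Y' ≤ Y) :
    (X.ptSub x).scheme.homOfLE ((X.ptSubι x).preimage_mono h) ≫ pieceι X x Y =
      pieceι X x Y' ≫ X.scheme.homOfLE h := by
  rw [← cancel_mono Y.ι]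
  simp [morphismRestrict_ι]

end piece

/-- `Y` is the union of `U` and of pairwise disjoint closures of finitely many points of
codimension `c`. -/
structure Good (c : ℕ) (U Y : X.scheme.Opens) (s : Finset X.scheme) : Prop where
  le : U ≤ Y
  dimY : WeilCoh.dim (Y : Scheme.{u}) = WeilCoh.dim X.scheme
  mem : ∀ x ∈ s, x ∈ Y
  notMem : ∀ x ∈ s, x ∉ U
  codim_eq : ∀ x ∈ s, WeilCoh.codim X.scheme x = c
  cover : ∀ z ∈ Y, z ∉ U → ∃ x ∈ s, x ⤳ z
  uniq : ∀ x ∈ s, ∀ x' ∈ s, ∀ z ∈ Y, x ⤳ z → x' ⤳ z → x = x'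

variable {X}

namespace Good

variable {c : ℕ} {U Y : X.scheme.Opens} {s : Finset X.scheme} (hG : Good X c U Y s)

include hG in
lemma pdim_eq {x : X.scheme} (hx : x ∈ s) :
    WeilCoh.pdim X.scheme x = WeilCoh.dim X.scheme - c := by
  have h1 := hG.codim_eq x hx
  have h2 := pdim_le_dim X.mem x
  simp only [WeilCoh.codim] at h1
  omega

include hG in
lemma c_le (hs : s.Nonempty) : c ≤ WeilCoh.dim X.scheme := by
  obtain ⟨x, hx⟩ := hs
  have h := hG.codim_eq x hx
  simp only [WeilCoh.codim] at h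
  omega

include hG in
lemma dim_pairZ (hs : s.Nonempty) :
    WeilCoh.dim (pairZ X U Y).scheme = WeilCoh.dim X.scheme - c := by
  refine dim_eq_of (pairZ X U Y).mem (fun z => ?_) ?_
  · obtain ⟨x, hx, hxz⟩ := hG.cover _ (opens_ι_mem X Y _) (pairι_notMem X z)
    rw [pdim_pairZ, ← hG.pdim_eq hx]
    exact pdim_le_of_specializes X.mem hxz
  · obtain ⟨x, hx⟩ := hs
    obtain ⟨y, hy⟩ : x ∈ Set.range Y.ι := by rw [Scheme.Opens.range_ι]; exact hG.mem x hx
    obtain ⟨z, hz⟩ : y ∈ Set.range (pairι X U Y) := by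
      rw [range_pairι, Set.mem_preimage, hy]; exact hG.notMem x hx
    exact ⟨z, by rw [pdim_pairZ, hz, hy, hG.pdim_eq hx]⟩

include hG in
lemma relCodim_pairZ (hs : s.Nonempty) :
    relCodim (pairZ X U Y).scheme (X.res Y).scheme = c := by
  have := hG.c_le hs
  show (WeilCoh.dim (Y : Scheme.{u}) : ℤ) - (WeilCoh.dim (pairZ X U Y).scheme : ℤ) = c
  rw [hG.dimY, hG.dim_pairZ hs]
  omega

include hG in
lemma dimU (h : ∀ z, WeilCoh.codim X.scheme z < c → z ∈ U) (hc : 0 < c) :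
    WeilCoh.dim (U : Scheme.{u}) = WeilCoh.dim (Y : Scheme.{u}) := by
  rw [hG.dimY]
  exact dim_opens_eq X fun z hz => h z (by simp [WeilCoh.codim, hz, hc])

variable (x : s)

include hG in
lemma range_pieceι_subset :
    Set.range (pieceι X x.1 Y) ⊆ Set.range (pairι X U Y) := by
  rintro _ ⟨p, rfl⟩
  rw [range_pairι]
  exact fun h => hG.notMem x.1 x.2 ((specializes_pieceι X x.1 p).mem_open U.isOpen h)

/-- The inclusion of a piece into the complement. -/
noncomputable def toZHom : ((X.ptSub x.1).res (piece X x.1 Y)).scheme ⟶ (pairZ X U Y).scheme :=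
  (RedSub.exists_lift_closed (pairι X U Y) (pieceι X x.1 Y) (hG.range_pieceι_subset x)).choose

@[reassoc (attr := simp)]
lemma toZHom_ι : hG.toZHom x ≫ pairι X U Y = pieceι X x.1 Y :=
  (RedSub.exists_lift_closed (pairι X U Y) (pieceι X x.1 Y) (hG.range_pieceι_subset x)).choose_spec

lemma range_toZHom :
    Set.range (hG.toZHom x) = {z | x.1 ⤳ Y.ι (pairι X U Y z)} := by
  ext z
  constructor
  · rintro ⟨p, rfl⟩
    show x.1 ⤳ _
    rw [← Scheme.Hom.comp_apply (hG.toZHom x) (pairι X U Y), toZHom_ι]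
    exact specializes_pieceι X x.1 p
  · intro hz
    obtain ⟨p, hp⟩ := exists_pieceι_eq X x.1 _ hz
    refine ⟨p, (pairι X U Y).isClosedEmbedding.injective ?_⟩
    rw [← hp]
    exact congr($(hG.toZHom_ι x) p)

instance : IsClosedImmersion (hG.toZHom x) :=
  have : IsClosedImmersion (hG.toZHom x ≫ pairι X U Y) := by rw [toZHom_ι]; infer_instance
  IsClosedImmersion.of_comp_isClosedImmersion _ (pairι X U Y)

lemma isOpen_range_toZHom : IsOpen (Set.range (hG.toZHom x)) := by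
  have hcl : ∀ y : s, IsClosed (Set.range (hG.toZHom y)) := fun y =>
    (hG.toZHom y).isClosedEmbedding.isClosed_range
  have hU : IsClosed (⋃ y : {y : s // y ≠ x}, Set.range (hG.toZHom y.1)) :=
    isClosed_iUnion_of_finite fun y => hcl y.1
  have he : Set.range (hG.toZHom x) =
      (⋃ y : {y : s // y ≠ x}, Set.range (hG.toZHom y.1))ᶜ := by
    ext z
    have hr : ∀ y : s, z ∈ Set.range (hG.toZHom y) ↔ y.1 ⤳ Y.ι (pairι X U Y z) :=
      fun y => Set.ext_iff.1 (hG.range_toZHom y) z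
    simp only [Set.mem_compl_iff, Set.mem_iUnion, hr, not_exists]
    constructor
    · intro hz y hy
      exact y.2 (Subtype.ext (hG.uniq _ y.1.2 _ x.2 _ (opens_ι_mem X Y _) hy hz))
    · intro hz
      obtain ⟨y, hy, hyz⟩ := hG.cover _ (opens_ι_mem X Y _) (pairι_notMem X z)
      by_contra hxz
      exact hz ⟨⟨y, hy⟩, fun h => hxz (by rw [← h]; exact hyz)⟩ hyz
  rw [he]
  exact hU.isOpen_compl

instance : IsOpenImmersion (hG.toZHom x) :=
  have : IsImmersion (hG.toZHom x) := inferInstance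
  RedSub.isOpenImmersion_of_isOpen_range _ (hG.isOpen_range_toZHom x)

/-- The inclusion of a piece into the complement, as a morphism of objects. -/
noncomputable def toZ : (X.ptSub x.1).res (piece X x.1 Y) ⟶ pairZ X U Y :=
  ⟨hG.toZHom x, inferInstance, by
    rw [hG.dim_pairZ ⟨x.1, x.2⟩, ← hG.pdim_eq x.2]
    exact dim_piece X x.1 (hG.mem x.1 x.2)⟩

lemma isDisjointCover : IsDisjointCover (fun x : s => hG.toZ x) where
  disjoint k l hkl := by
    rw [Set.disjoint_left]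
    intro z hk hl
    change z ∈ Set.range (hG.toZHom k) at hk
    change z ∈ Set.range (hG.toZHom l) at hl
    rw [range_toZHom] at hk hl
    exact hkl (Subtype.ext (hG.uniq _ k.2 _ l.2 _ (opens_ι_mem X Y _) hk hl))
  cover z := by
    obtain ⟨y, hy, hyz⟩ := hG.cover _ (opens_ι_mem X Y _) (pairι_notMem X z)
    refine ⟨⟨y, hy⟩, ?_⟩
    change z ∈ Set.range (hG.toZHom _)
    rw [range_toZHom]
    exact hyz

variable {Y' : X.scheme.Opens}

include hG in
lemma restrict (hY : Y' ≤ Y) (hd : WeilCoh.dim (Y' : Scheme.{u}) = WeilCoh.dim X.scheme)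
    (hs : ∀ x ∈ s, x ∈ Y') : Good X c (U ⊓ Y') Y' s where
  le := inf_le_right
  dimY := hd
  mem := hs
  notMem x hx h := hG.notMem x hx h.1
  codim_eq := hG.codim_eq
  cover z hz hzU := hG.cover z (hY hz) fun h => hzU ⟨h, hz⟩
  uniq x hx x' hx' z hz := hG.uniq x hx x' hx' z (hY hz)

lemma toZ_pairMap (hY : Y' ≤ Y) (hG' : Good X c (U ⊓ Y') Y' s)
    (hZ : WeilCoh.dim (pairZ X (U ⊓ Y') Y').scheme = WeilCoh.dim (pairZ X U Y).scheme)
    (hd) :
    hG'.toZ x ≫ pairMap X hY hZ =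
      (X.ptSub x.1).resLE (U := piece X x.1 Y') (U' := piece X x.1 Y)
        ((X.ptSubι x.1).preimage_mono hY) hd ≫ hG.toZ x := by
  refine Hom.ext ?_
  show hG'.toZHom x ≫ pairMapHom X hY = _ ≫ hG.toZHom x
  rw [← cancel_mono (pairι X U Y), Category.assoc, Category.assoc, pairMapHom_ι, toZHom_ι,
    toZHom_ι_assoc]
  exact (pieceι_resLE X x.1 hY).symm

end Good

variable (X)

lemma exists_good (c : ℕ) (U Y₁ : X.scheme.Opens) (hU : ∀ z, WeilCoh.codim X.scheme z < c → z ∈ U)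
    (hY₁ : ContainsFj X c Y₁) :
    ∃ (Y : X.scheme.Opens) (s : Finset X.scheme), Y ≤ Y₁ ∧ ContainsFj X c Y ∧
      Good X c (U ⊓ Y) Y s ∧ ∀ z, z ∈ s ↔ WeilCoh.codim X.scheme z = c ∧ z ∉ U := by
  classical
  obtain ⟨G, hGS, hGcov⟩ := exists_generic_points X _ U.isOpen.isClosed_compl
  let s := G.filter fun g => WeilCoh.codim X.scheme g = c
  have hge : ∀ g ∈ G, c ≤ WeilCoh.codim X.scheme g := fun g hg =>
    not_lt.1 fun h => hGS g hg (hU g h)
  let C : Set X.scheme := (⋃ g ∈ (↑(G \ s) : Set X.scheme), closure {g}) ∪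
    ⋃ p ∈ ((↑(s ×ˢ s) : Set (X.scheme × X.scheme)) ∩ {p | p.1 ≠ p.2}),
      closure {p.1} ∩ closure {p.2}
  have hC : IsClosed C :=
    (Set.Finite.isClosed_biUnion (G \ s).finite_toSet fun _ _ => isClosed_closure).union
      (((s ×ˢ s).finite_toSet.inter_of_left _).isClosed_biUnion fun _ _ =>
        isClosed_closure.inter isClosed_closure)
  have hdisj : ∀ z, WeilCoh.codim X.scheme z ≤ c → z ∉ C := by
    intro z hz hzC
    rcases hzC with hzC | hzC
    · simp only [Set.mem_iUnion, Finset.coe_sdiff, Set.mem_sdiff, Finset.mem_coe] at hzC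
      obtain ⟨g, ⟨hg, hgs⟩, hgz⟩ := hzC
      have h1 := codim_le_of_specializes X (specializes_iff_mem_closure.2 hgz)
      exact hgs (Finset.mem_filter.2 ⟨hg, le_antisymm (h1.trans hz) (hge g hg)⟩)
    · simp only [Set.mem_iUnion, Set.mem_inter_iff, Finset.coe_product, Set.mem_prod,
        Finset.mem_coe, Set.mem_ofPred_eq] at hzC
      obtain ⟨⟨g, g'⟩, ⟨⟨hg, hg'⟩, hne⟩, hgz, hgz'⟩ := hzC
      have e1 := (Finset.mem_filter.1 hg).2
      have e2 := (Finset.mem_filter.1 hg').2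
      exact hne ((eq_of_specializes_of_codim_le X (specializes_iff_mem_closure.2 hgz)
        (hz.trans_eq e1.symm)).trans (eq_of_specializes_of_codim_le X
          (specializes_iff_mem_closure.2 hgz') (hz.trans_eq e2.symm)).symm)
  let Y : X.scheme.Opens := Y₁ ⊓ ⟨Cᶜ, hC.isOpen_compl⟩
  have hY : ContainsFj X c Y := fun z hz => ⟨hY₁ z hz, hdisj z hz⟩
  have hs : ∀ z, z ∈ s ↔ WeilCoh.codim X.scheme z = c ∧ z ∉ U := by
    intro z
    constructor
    · intro hz
      exact ⟨(Finset.mem_filter.1 hz).2, hGS z (Finset.mem_filter.1 hz).1⟩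
    · rintro ⟨hz, hzU⟩
      obtain ⟨g, hg, hgz⟩ := hGcov z hzU
      obtain rfl := eq_of_specializes_of_codim_le X hgz (hz.trans_le (hge g hg))
      exact Finset.mem_filter.2 ⟨hg, hz⟩
  refine ⟨Y, s, inf_le_left, hY, ⟨inf_le_right, containsFj_dim X hY, ?_, ?_, ?_, ?_, ?_⟩, hs⟩
  · exact fun x hx => hY x ((hs x).1 hx).1.le
  · exact fun x hx h => ((hs x).1 hx).2 h.1
  · exact fun x hx => ((hs x).1 hx).1
  · intro z hzY hz
    obtain ⟨g, hg, hgz⟩ := hGcov z fun h => hz ⟨h, hzY⟩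
    refine ⟨g, by_contra fun hgs => hzY.2 (Or.inl ?_), hgz⟩
    exact Set.mem_biUnion (Finset.mem_coe.2 (Finset.mem_sdiff.2 ⟨hg, hgs⟩))
      (specializes_iff_mem_closure.1 hgz)
  · intro x hx x' hx' z hzY h h'
    by_contra hne
    refine hzY.2 (Or.inr (Set.mem_biUnion (x := (x, x')) ⟨?_, hne⟩
      ⟨specializes_iff_mem_closure.1 h, specializes_iff_mem_closure.1 h'⟩))
    exact Finset.mem_coe.2 (Finset.mem_product.2 ⟨hx, hx'⟩)

lemma exists_shrink (c : ℕ) (Y : X.scheme.Opens) (hY : ContainsFj X c Y) (s : Finset X.scheme)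
    (hs : ∀ x ∈ s, WeilCoh.codim X.scheme x = c) (W : ∀ x : s, (X.ptSub x.1).scheme.Opens)
    (hW : ∀ x : s, gen X x.1 ∈ W x) :
    ∃ Y' : X.scheme.Opens, Y' ≤ Y ∧ ContainsFj X c Y' ∧ ∀ x : s, piece X x.1 Y' ≤ W x := by
  let C : Set X.scheme := ⋃ x : s, X.ptSubι x.1 '' (↑(W x))ᶜ
  have hC : IsClosed C := isClosed_iUnion_of_finite fun x =>
    (X.ptSubι x.1).isClosedEmbedding.isClosedMap _ (W x).isOpen.isClosed_compl
  refine ⟨Y ⊓ ⟨Cᶜ, hC.isOpen_compl⟩, inf_le_left, fun z hz => ⟨hY z hz, ?_⟩, fun x p hp => ?_⟩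
  · intro hzC
    obtain ⟨x, p, hp, rfl⟩ := Set.mem_iUnion.1 hzC
    have hxp : x.1 ⤳ X.ptSubι x.1 p := by
      rw [specializes_iff_mem_closure, ← range_ptSubι X x.1]; exact ⟨p, rfl⟩
    have := eq_of_specializes_of_codim_le X hxp (hz.trans_eq (hs x.1 x.2).symm)
    exact hp (eq_gen X x.1 this.symm ▸ hW x)
  · by_contra hpW
    exact hp.2 (Set.mem_iUnion.2 ⟨x, p, hpW, rfl⟩)

end Groth.Agent.BMLib
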