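import Groth.Prelude.Def_BMCoh4
import Groth.Agent.BMLib.Misc
import Groth.Agent.GrpScheme.Dimension

/-!
Push-forward data between groups of points.
-/

set_option autoImplicit false
set_option linter.unusedSectionVars false

universe u

open AlgebraicGeometry CategoryTheory CategoryTheory.Limits Opposite TopologicalSpace Topology

namespace Groth.Agent.BMLib

open BMCoh

variable {V : ObjectProperty Scheme.{u}} [IsConstructible V] {R : Type u} [CommRing R]
  {A : Coefs R} {T : PreTheory V R A} {X Y : Obj V} (φ : Y.scheme ⟶ X.scheme)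

lemma range_ptSubι_comp {y : Y.scheme} {x : X.scheme} (h : φ y = x) :
    Set.range (Y.ptSubι y ≫ φ) ⊆ Set.range (X.ptSubι x) := by
  rintro _ ⟨p, rfl⟩
  rw [range_ptSubι]
  have h1 : y ⤳ Y.ptSubι y p := by
    rw [specializes_iff_mem_closure, ← range_ptSubι Y y]; exact ⟨p, rfl⟩
  exact specializes_iff_mem_closure.1 (h ▸ h1.map φ.continuous)

/-- The induced morphism between the closures of points. -/
noncomputable def ptMap (y : Y.scheme) (x : X.scheme) (h : φ y = x) :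
    (Y.ptSub y).scheme ⟶ (X.ptSub x).scheme :=
  (RedSub.exists_lift_closed (X.ptSubι x) (Y.ptSubι y ≫ φ) (range_ptSubι_comp φ h)).choose

variable {φ} {y : Y.scheme} {x : X.scheme} (h : φ y = x)

lemma ptMap_ι : ptMap φ y x h ≫ X.ptSubι x = Y.ptSubι y ≫ φ :=
  (RedSub.exists_lift_closed (X.ptSubι x) (Y.ptSubι y ≫ φ) (range_ptSubι_comp φ h)).choose_spec

lemma ptMap_gen : ptMap φ y x h (gen Y y) = gen X x := by
  refine eq_gen X x ?_
  rw [← Scheme.Hom.comp_apply, ptMap_ι, Scheme.Hom.comp_apply, ι_gen, h]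

instance isProper_ptMap [IsProper φ] : IsProper (ptMap φ y x h) := by
  have : IsProper (ptMap φ y x h ≫ X.ptSubι x) := by rw [ptMap_ι]; infer_instance
  exact IsProper.of_comp (ptMap φ y x h) (X.ptSubι x)

lemma surjective_ptMap [IsProper φ] : Function.Surjective (ptMap φ y x h) := fun q =>
  (gen_specializes X x q).mem_closed
    (ptMap φ y x h).isClosedMap.isClosed_range ⟨gen Y y, ptMap_gen h⟩

lemma natDim_le_natDim {S S' : Scheme.{u}} (hS' : V S')
    (h : topologicalKrullDim S ≤ topologicalKrullDim S') : WeilCoh.dim S ≤ WeilCoh.dim S' := by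
  have hfin := IsConstructible.finiteDim hS'
  show ((topologicalKrullDim S).unbotD 0).toNat ≤ ((topologicalKrullDim S').unbotD 0).toNat
  revert h hfin
  generalize topologicalKrullDim S = a
  generalize topologicalKrullDim S' = b
  intro h hfin
  induction a using WithBot.recBotCoe with
  | bot => simp
  | coe a =>
    induction b using WithBot.recBotCoe with
    | bot => simp at h
    | coe b =>
      exact ENat.toNat_le_toNat (WithBot.coe_le_coe.1 h) (WithBot.coe_lt_coe.1 hfin).ne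

include h in
lemma pdim_le_of_isProper [IsProper φ] :
    WeilCoh.pdim X.scheme x ≤ WeilCoh.pdim Y.scheme y := by
  rw [← dim_ptSub, ← dim_ptSub]
  exact natDim_le_natDim (Y.ptSub y).mem (DimLift.topDim_le_of_specializingMap
    (surjective_ptMap h) (ptMap φ y x h).isClosedMap.specializingMap)

include h in
lemma pdim_le_of_isIntegralHom [IsIntegralHom φ] :
    WeilCoh.pdim Y.scheme y ≤ WeilCoh.pdim X.scheme x := by
  rw [← dim_ptSub, ← dim_ptSub]
  refine natDim_le_natDim (X.ptSub x).mem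
    (DimLift.topDim_le_of_fibres_antichain (ptMap φ y x h).continuous fun p p' hp e => ?_)
  refine (Y.ptSubι y).isClosedEmbedding.injective ?_
  refine GrpScheme.Dimension.eq_of_specializes_of_apply_eq φ (hp.map (Y.ptSubι y).continuous) ?_
  have e1 := congr($(ptMap_ι h) p)
  have e2 := congr($(ptMap_ι h) p')
  simp only [Scheme.Hom.comp_apply] at e1 e2
  rw [← e1, ← e2, e]

omit h in
lemma isPullback_restrict_restrict {S S' : Scheme.{u}} (g : S ⟶ S') {U' U : S'.Opens}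
    (hle : U' ≤ U) :
    IsPullback (S.homOfLE (g.preimage_mono hle)) (g ∣_ U') (g ∣_ U) (S'.homOfLE hle) := by
  refine (IsOpenImmersion.isPullback (g ∣_ U') (S.homOfLE (g.preimage_mono hle)) (S'.homOfLE hle)
    (g ∣_ U) ?_ ?_).flip
  · rw [← cancel_mono U.ι]
    simp [morphismRestrict_ι]
  · refine Opens.ext (Set.ext fun p => ?_)
    simp

variable {M : A.Cat}

include h in
/-- Small neighbourhoods in the target have small preimage. -/
lemma exists_preimage_le [IsProper φ] (hd : WeilCoh.pdim Y.scheme y = WeilCoh.pdim X.scheme x)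
    (W : (Y.ptSub y).scheme.Opens) (hW : gen Y y ∈ W) :
    ∃ W' : (X.ptSub x).scheme.Opens, gen X x ∈ W' ∧ ptMap φ y x h ⁻¹ᵁ W' ≤ W := by
  refine ⟨⟨(ptMap φ y x h '' (↑W)ᶜ)ᶜ,
    ((ptMap φ y x h).isClosedMap _ W.isOpen.isClosed_compl).isOpen_compl⟩, ?_, ?_⟩
  · rintro ⟨p, hp, he⟩
    have hx : φ (Y.ptSubι y p) = x := by
      rw [← Scheme.Hom.comp_apply, ← ptMap_ι h, Scheme.Hom.comp_apply, he, ι_gen]
    have hyp : y ⤳ Y.ptSubι y p := by
      rw [specializes_iff_mem_closure, ← range_ptSubι Y y]; exact ⟨p, rfl⟩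
    have h2 := eq_of_specializes_of_pdim_le Y.mem hyp (hd.le.trans (pdim_le_of_isProper hx))
    exact hp (eq_gen Y y h2.symm ▸ hW)
  · intro p hp
    by_contra hpW
    exact hp ⟨p, hpW, rfl⟩

lemma PtPush_pdim (P : T.PtPush φ y x) :
    WeilCoh.pdim Y.scheme y = WeilCoh.pdim X.scheme x := by
  have h := P.codim_eq
  rw [relCodim, dim_ptSub, dim_ptSub] at h
  omega

/-- The value of a push-forward datum on a class defined on the preimage of an open. -/
lemma cpt_ptMap [IsProper φ] (P : T.PtPush φ y x) (W' : (X.ptSub x).scheme.Opens)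
    (hW' : gen X x ∈ W') (hW : gen Y y ∈ ptMap φ y x P.maps_pt ⁻¹ᵁ W') (i n : ℤ) (hi hn)
    (w : T.gp ((Y.ptSub y).res (ptMap φ y x P.maps_pt ⁻¹ᵁ W')) M i n) :
    (P.cpt M i n).hom (((T.ptι Y y i n (ptI y _ hW)).app M).hom w) =
      ((T.ptι X x i n (ptI x W' hW')).app M).hom
        ((T.push (X := (Y.ptSub y).res (ptMap φ y x P.maps_pt ⁻¹ᵁ W')) (Y := (X.ptSub x).res W')
          (ptMap φ y x P.maps_pt ∣_ W') M i n i n hi hn).hom w) :=
  congr($(P.cpt_spec M i n (ptI y _ hW) (ptI x W' hW') (ptMap φ y x P.maps_pt ∣_ W')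
    (by rw [morphismRestrict_ι_assoc, ptMap_ι]) hi hn).hom w)

lemma relCodim_ptMap (P : T.PtPush φ y x) (W' : (X.ptSub x).scheme.Opens) (hW' : gen X x ∈ W')
    (hW : gen Y y ∈ ptMap φ y x P.maps_pt ⁻¹ᵁ W') :
    relCodim ((Y.ptSub y).res (ptMap φ y x P.maps_pt ⁻¹ᵁ W')).scheme ((X.ptSub x).res W').scheme =
      0 := by
  show (WeilCoh.dim (W' : Scheme.{u}) : ℤ) -
    (WeilCoh.dim ((ptMap φ y x P.maps_pt ⁻¹ᵁ W' : _) : Scheme.{u}) : ℤ) = 0
  rw [(ptI x W' hW').2.2, (ptI y _ hW).2.2]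
  exact P.codim_eq

/-- A class at `y` is represented on the preimage of an open at `x`. -/
lemma exists_rep_preimage [IsProper φ] (P : T.PtPush φ y x) {i n : ℤ} (a : T.ptGp Y y M i n) :
    ∃ (W' : (X.ptSub x).scheme.Opens) (_ : gen X x ∈ W')
      (hW : gen Y y ∈ ptMap φ y x P.maps_pt ⁻¹ᵁ W')
      (w : T.gp ((Y.ptSub y).res (ptMap φ y x P.maps_pt ⁻¹ᵁ W')) M i n),
      ((T.ptι Y y i n (ptI y _ hW)).app M).hom w = a := by
  obtain ⟨W, w, rfl⟩ := exists_rep T M i n a
  obtain ⟨W', hW', hle⟩ := exists_preimage_le P.maps_pt (PtPush_pdim P) W.1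
    (gen_mem Y y W.2.1)
  have hW : gen Y y ∈ ptMap φ y x P.maps_pt ⁻¹ᵁ W' := by
    show ptMap φ y x P.maps_pt (gen Y y) ∈ W'
    rw [ptMap_gen]; exact hW'
  refine ⟨W', hW', hW, (T.pull ((Y.ptSub y).resLE hle
    ((ptI y _ hW).2.2.trans W.2.2.symm)) M i n).hom w, ?_⟩
  exact fjι_res (T := T) (M := M) (U := W) (U' := ptI y _ hW) hle _ i n w

lemma ptPush_ext [IsProper φ] (P P' : T.PtPush φ y x) : P = P' := by
  have h : P.cpt = P'.cpt := by
    funext M i n
    refine ModuleCat.hom_ext (LinearMap.ext fun a => ?_)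
    obtain ⟨W', hW', hW, w, rfl⟩ := exists_rep_preimage P a
    have hr := relCodim_ptMap P W' hW' hW
    exact (cpt_ptMap P W' hW' hW i n (by rw [hr]; ring) (by rw [hr]; ring) w).trans
      (cpt_ptMap P' W' hW' hW i n _ _ w).symm
  cases P; cases P'; simp only at h; subst h; rfl

/-- Push-forward data are bijective when the morphism of closures is generically an isomorphism. -/
lemma cpt_bijective [IsProper φ] (P : T.PtPush φ y x) (W₀ : (X.ptSub x).scheme.Opens)
    (hW₀ : gen X x ∈ W₀) (hiso : IsIso (ptMap φ y x P.maps_pt ∣_ W₀)) (i n : ℤ) :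
    Function.Bijective (P.cpt M i n).hom := by
  have hI : ∀ W' : (X.ptSub x).scheme.Opens, W' ≤ W₀ → IsIso (ptMap φ y x P.maps_pt ∣_ W') := by
    intro W' hle
    have := isPullback_restrict_restrict (ptMap φ y x P.maps_pt) hle
    exact MorphismProperty.of_isPullback (P := .isomorphisms Scheme) this hiso
  have hgen : ∀ W' : (X.ptSub x).scheme.Opens, gen X x ∈ W' →
      gen Y y ∈ ptMap φ y x P.maps_pt ⁻¹ᵁ W' := fun W' hW' => by
    show ptMap φ y x P.maps_pt (gen Y y) ∈ W'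
    rw [ptMap_gen]; exact hW'
  constructor
  · refine (injective_iff_map_eq_zero _).2 fun a ha => ?_
    obtain ⟨W', hW', hW, w, rfl⟩ := exists_rep_preimage P a
    have hr := relCodim_ptMap P W' hW' hW
    rw [cpt_ptMap P W' hW' hW i n (by rw [hr]; ring) (by rw [hr]; ring)] at ha
    obtain ⟨W₁, hle, h0⟩ := ι_eq_zero T (ptI x W' hW') M i n _ ha
    let W₂ := W₁.1 ⊓ W₀
    have hW₂ : gen X x ∈ W₂ := ⟨gen_mem X x W₁.2.1, hW₀⟩
    have hle₂ : W₂ ≤ W' := inf_le_left.trans hle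
    have hd : WeilCoh.dim (W₂ : Scheme.{u}) = WeilCoh.dim (W' : Scheme.{u}) :=
      (ptI x W₂ hW₂).2.2.trans (ptI x W' hW').2.2.symm
    have hd' : WeilCoh.dim ((ptMap φ y x P.maps_pt ⁻¹ᵁ W₂ : _) : Scheme.{u}) =
        WeilCoh.dim ((ptMap φ y x P.maps_pt ⁻¹ᵁ W' : _) : Scheme.{u}) :=
      (ptI y _ (hgen W₂ hW₂)).2.2.trans (ptI y _ hW).2.2.symm
    have hr₂ := relCodim_ptMap P W₂ hW₂ (hgen W₂ hW₂)
    have := hI W₂ inf_le_right
    have hpb : IsPullback
        ((Y.ptSub y).resLE ((ptMap φ y x P.maps_pt).preimage_mono hle₂) hd').hom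
        (ptMap φ y x P.maps_pt ∣_ W₂) (ptMap φ y x P.maps_pt ∣_ W')
        ((X.ptSub x).resLE hle₂ hd).hom :=
      isPullback_restrict_restrict (ptMap φ y x P.maps_pt) hle₂
    have e := pull_push T M (X := (Y.ptSub y).res (ptMap φ y x P.maps_pt ⁻¹ᵁ W'))
      (Y := (X.ptSub x).res W') (ptMap φ y x P.maps_pt ∣_ W') (ptMap φ y x P.maps_pt ∣_ W₂)
      ((X.ptSub x).resLE hle₂ hd)
      ((Y.ptSub y).resLE ((ptMap φ y x P.maps_pt).preimage_mono hle₂) hd')
      hpb
      (i := i) (n := n) (i' := i) (n' := n)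
      (by rw [hr]; ring) (by rw [hr]; ring) (by rw [hr₂]; ring) (by rw [hr₂]; ring) w
    have e0 : (T.pull ((X.ptSub x).resLE hle₂ hd) M i n).hom
        ((T.push (X := (Y.ptSub y).res (ptMap φ y x P.maps_pt ⁻¹ᵁ W'))
          (Y := (X.ptSub x).res W') (ptMap φ y x P.maps_pt ∣_ W') M i n i n
          (by rw [hr]; ring) (by rw [hr]; ring)).hom w) = 0 := by
      have e2 := pull_pull T M ((X.ptSub x).resLE (U := W₂) (U' := W₁.1) inf_le_left
        ((ptI x W₂ hW₂).2.2.trans W₁.2.2.symm))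
        ((X.ptSub x).resLE hle (W₁.2.2.trans (ptI x W' hW').2.2.symm)) i n
        ((T.push (X := (Y.ptSub y).res (ptMap φ y x P.maps_pt ⁻¹ᵁ W'))
          (Y := (X.ptSub x).res W') (ptMap φ y x P.maps_pt ∣_ W') M i n i n
          (by rw [hr]; ring) (by rw [hr]; ring)).hom w)
      rw [resLE_resLE (X.ptSub x)] at e2
      exact e2.symm.trans ((congrArg _ h0).trans (map_zero _))
    have e3 := (push_bijective T M (X := (Y.ptSub y).res (ptMap φ y x P.maps_pt ⁻¹ᵁ W₂))
      (Y := (X.ptSub x).res W₂) (ptMap φ y x P.maps_pt ∣_ W₂) (i := i) (n := n) (i' := i) (n' := n)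
      (by rw [hr₂]; ring) (by rw [hr₂]; ring)).1
      ((e.symm.trans e0).trans (map_zero _).symm)
    rw [← fjι_res (T := T) (M := M) (U := ptI y _ hW) (U' := ptI y _ (hgen W₂ hW₂))
      ((ptMap φ y x P.maps_pt).preimage_mono hle₂) hd' i n w]
    exact (congrArg _ e3).trans (map_zero _)
  · intro b
    obtain ⟨W, v, rfl⟩ := exists_rep T M i n b
    let W₂ := W.1 ⊓ W₀
    have hW₂ : gen X x ∈ W₂ := ⟨gen_mem X x W.2.1, hW₀⟩
    have hd : WeilCoh.dim (W₂ : Scheme.{u}) = WeilCoh.dim (W.1 : Scheme.{u}) :=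
      (ptI x W₂ hW₂).2.2.trans W.2.2.symm
    have hr₂ := relCodim_ptMap P W₂ hW₂ (hgen W₂ hW₂)
    have := hI W₂ inf_le_right
    obtain ⟨w, hw⟩ := (push_bijective T M (X := (Y.ptSub y).res (ptMap φ y x P.maps_pt ⁻¹ᵁ W₂))
      (Y := (X.ptSub x).res W₂) (ptMap φ y x P.maps_pt ∣_ W₂) (i := i) (n := n) (i' := i) (n' := n)
      (by rw [hr₂]; ring) (by rw [hr₂]; ring)).2
      ((T.pull ((X.ptSub x).resLE (U := W₂) (U' := W.1) inf_le_left hd) M i n).hom v)
    refine ⟨((T.ptι Y y i n (ptI y _ (hgen W₂ hW₂))).app M).hom w, ?_⟩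
    rw [cpt_ptMap P W₂ hW₂ (hgen W₂ hW₂) i n (by rw [hr₂]; ring) (by rw [hr₂]; ring), hw]
    exact fjι_res (T := T) (M := M) (U := W) (U' := ptI x W₂ hW₂) inf_le_left hd i n v

end Groth.Agent.BMLib
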