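import Groth.Agent.BMLib.Misc

/-!
The coniveau sequence in the degree above which all groups vanish.
-/

set_option autoImplicit false

universe u

open AlgebraicGeometry CategoryTheory CategoryTheory.Limits Opposite TopologicalSpace

namespace Groth.Agent.BMLib

open BMCoh

variable {V : ObjectProperty Scheme.{u}} [IsConstructible V] {R : Type u} [CommRing R]
  {A : Coefs R} {T : PreTheory V R A} {X : Obj V} [IsReduced X.scheme] {M : A.Cat}

lemma pushTot_surjective {b : ℕ}
    (hc : ∀ (x : X.scheme) (k l : ℤ), (WeilCoh.pdim X.scheme x : ℤ) + b < k →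
      ∀ a : T.ptGp X x M k l, a = 0)
    (q : ℕ) (P : T.PushData X q) {i n i' n' : ℤ} (hi : i' = i + 2 * (q : ℤ)) (hn : n' = n + (q : ℤ))
    (h : (WeilCoh.dim X.scheme : ℤ) + q + b ≤ i') :
    Function.Surjective (P.tot M i n i' n' hi hn).hom := by
  cases q with
  | zero => exact (pushTot_bijective_zero P hi hn).2
  | succ q =>
    intro α
    refine ((exact_pushTot_fjRes T X M q P hi hn) α).1 ?_
    exact fjGp_eq_zero hc q i' n' (by push_cast at h; omega) _

end Groth.Agent.BMLib
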