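import Groth.Agent.BMLib.Data

/-!
Uniqueness of residue and push-forward data.
-/

set_option autoImplicit false

universe u

open AlgebraicGeometry CategoryTheory CategoryTheory.Limits Opposite TopologicalSpace

namespace Groth.Agent.BMLib

open BMCoh

variable {V : ObjectProperty Scheme.{u}} [IsConstructible V] {R : Type u} [CommRing R]
  {A : Coefs R} {T : PreTheory V R A} {X : Obj V} {j : ℕ}

lemma pushData_ext (P P' : T.PushData X j) : P = P' := by
  have h : P.cpt = P'.cpt := by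
    funext x M i n i' n' hi hn
    refine ModuleCat.hom_ext (LinearMap.ext fun a => ?_)
    obtain ⟨W, w, rfl⟩ := exists_rep T M i n a
    let U₀ : X.scheme.Opens := ⟨(closure {x.1})ᶜ, isClosed_closure.isOpen_compl⟩
    obtain ⟨Y, s, -, hY, hG, hs'⟩ := exists_good X j U₀ ⊤ (fun z hz hzx => by
      have h1 := codim_le_of_specializes X (specializes_iff_mem_closure.2 hzx)
      have h2 := x.2
      omega) (fun _ _ => trivial)
    have hxs : x.1 ∈ s := (hs' x.1).2 ⟨x.2, fun h => h (subset_closure rfl)⟩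
    obtain ⟨Y', hle, hY', hp⟩ := exists_shrink_single X j Y hY x.1 x.2 W.1 (gen_mem X x.1 W.2.1)
    have hG' := hG.restrict hle (containsFj_dim X hY') fun z hz => hY' z (hG.codim_eq z hz).le
    have hd : WeilCoh.dim (piece X x.1 Y' : Scheme.{u}) = WeilCoh.dim (W.1 : Scheme.{u}) :=
      (dim_open_ptSub X x.1 _ ⟨_, gen_mem_piece X x.1 (hG'.mem _ hxs)⟩).trans W.2.2.symm
    have ew := fjι_res (T := T) (M := M) (U := W)
      (U' := pieceIdx X x.1 (hG'.mem _ hxs)) hp hd i n w
    rw [← ew]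
    exact (cpt_push P hG' hY' ⟨x.1, hxs⟩ hi hn _).trans
      (cpt_push P' hG' hY' ⟨x.1, hxs⟩ hi hn _).symm
  cases P; cases P'; simp only at h; subst h; rfl

lemma resData_ext (Q Q' : T.ResData X j) : Q = Q' := by
  have h : Q.cpt = Q'.cpt := by
    funext x M i n i' n' hi hn
    refine ModuleCat.hom_ext (LinearMap.ext fun a => ?_)
    obtain ⟨U, b, rfl⟩ := exists_rep T M i n a
    obtain ⟨Y, s, -, hY, hG, hs'⟩ := exists_good X (j + 1) U.1 ⊤
      (fun z hz => U.2.1 z (by omega)) (fun _ _ => trivial)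
    have hU' : ContainsFj X j (U.1 ⊓ Y) :=
      containsFj_inf U.2.1 (containsFj_mono X (Nat.le_succ j) _ hY)
    have e := fjι_res (T := T) (M := M) (U := U) (U' := fjIdx hU') inf_le_left
      ((containsFj_dim X hU').trans U.2.2.symm) i n b
    rw [← e]
    by_cases hx : x.1 ∈ s
    · exact (cpt_res Q hG hU' ⟨x.1, hx⟩ hi hn (hG.resDec_hi ⟨_, hx⟩ hU' hi)
        (hG.resDec_hn ⟨_, hx⟩ hU' hn) _).trans (cpt_res Q' hG hU' ⟨x.1, hx⟩ hi hn _ _ _).symm
    · have hxU : x.1 ∈ U.1 ⊓ Y := ⟨not_not.1 fun h => hx ((hs' x.1).2 ⟨x.2, h⟩), hY x.1 x.2.le⟩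
      exact (cpt_out Q hU' x hxU hi hn _).trans (cpt_out Q' hU' x hxU hi hn _).symm
  cases Q; cases Q'; simp only at h; subst h; rfl

end Groth.Agent.BMLib
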