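import Groth.Agent.BMLib.Data

/-!
Bijectivity and vanishing statements for the groups of the loci of bounded codimension.
-/

set_option autoImplicit false
set_option linter.unusedSectionVars false

universe u

open AlgebraicGeometry CategoryTheory CategoryTheory.Limits Opposite TopologicalSpace DirectSum

namespace Groth.Agent.BMLib

open BMCoh

variable {V : ObjectProperty Scheme.{u}} [IsConstructible V] {R : Type u} [CommRing R]
  {A : Coefs R} {T : PreTheory V R A} {X : Obj V} {M : A.Cat}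
  {c j : ℕ} {U Y : X.scheme.Opens} {s : Finset X.scheme}

lemma fjRes_surjective {i n i' n' : ℤ} (hi : i' = i + 1 - 2 * ((j : ℤ) + 1))
    (hn : n' = n - ((j : ℤ) + 1))
    (h : ∀ (x : X.cdPt (j + 1)) (a : T.ptGp X x.1 M i' n'), a = 0) :
    Function.Surjective ((T.fjRes X (Nat.le_succ j) i n).app M).hom := by
  intro a
  obtain ⟨U, b, rfl⟩ := exists_rep T M i n a
  obtain ⟨Y, s, -, hY, hG, -⟩ := exists_good X (j + 1) U.1 ⊤
    (fun z hz => U.2.1 z (by omega)) (fun _ _ => trivial)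
  have hU' : ContainsFj X j (U.1 ⊓ Y) :=
    containsFj_inf U.2.1 (containsFj_mono X (Nat.le_succ j) _ hY)
  have e := fjι_res (T := T) (M := M) (U := U) (U' := fjIdx hU') inf_le_left
    ((containsFj_dim X hU').trans U.2.2.symm) i n b
  rw [← e]
  exact LinearMap.mem_range.1 (mem_range_fjRes hG rfl hU' hY hi hn _
    fun x _ _ => h (hG.pt x) _)

lemma fjRes_injective {i n i' n' : ℤ} (hi : i' = i + 2 * ((j + 1 : ℕ) : ℤ))
    (hn : n' = n + ((j + 1 : ℕ) : ℤ))
    (h : ∀ (x : X.cdPt (j + 1)) (a : T.ptGp X x.1 M i n), a = 0) :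
    Function.Injective ((T.fjRes X (Nat.le_succ j) i' n').app M).hom := by
  refine (injective_iff_map_eq_zero _).2 fun α hα => ?_
  rcases exists_push_of_fjRes_eq_zero (i := i) (n := n) hi hn α hα with
    h0 | ⟨U, Y, s, hG, hY, -, hs, hi', hn', r, rfl⟩
  · exact h0
  · exact fjι_push_eq_zero hG hY hs r fun x => h (hG.pt x) _

lemma fjRes_bijective {i n : ℤ}
    (h0 : ∀ (x : X.cdPt (j + 1))
      (a : T.ptGp X x.1 M (i - 2 * ((j : ℤ) + 1)) (n - ((j : ℤ) + 1))), a = 0)
    (h1 : ∀ (x : X.cdPt (j + 1))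
      (a : T.ptGp X x.1 M (i + 1 - 2 * ((j : ℤ) + 1)) (n - ((j : ℤ) + 1))), a = 0) :
    Function.Bijective ((T.fjRes X (Nat.le_succ j) i n).app M).hom :=
  ⟨fjRes_injective (by push_cast; ring) (by push_cast; ring) h0, fjRes_surjective rfl rfl h1⟩

lemma fjRes_fjRes {k m : ℕ} (h : j ≤ k) (h' : k ≤ m) (i n : ℤ) (a : T.fjGp X m M i n) :
    ((T.fjRes X h i n).app M).hom (((T.fjRes X h' i n).app M).hom a) =
      ((T.fjRes X (h.trans h') i n).app M).hom a := by
  obtain ⟨U, b, rfl⟩ := exists_rep T M i n a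
  rw [fjRes_ι, fjRes_ι, fjRes_ι]

lemma eq_top_of_containsFj {m : ℕ} (hm : WeilCoh.dim X.scheme ≤ m) {U : X.scheme.Opens}
    (hU : ContainsFj X m U) : U = ⊤ :=
  Opens.ext (Set.eq_univ_of_forall fun z => hU z ((Nat.sub_le _ _).trans hm))

lemma containsFj_top (X : Obj V) (m : ℕ) : ContainsFj X m (⊤ : X.scheme.Opens) := fun _ _ => trivial

lemma toFj_eq (m : ℕ) (i n : ℤ) (a : T.gp X M i n) :
    ((T.toFj X m i n).app M).hom a = ((T.fjι X m i n (fjIdx (containsFj_top X m))).app M).hom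
      ((T.pull X.resTop M i n).hom a) := rfl

lemma fjRes_toFj {m : ℕ} (h : j ≤ m) (i n : ℤ) (a : T.gp X M i n) :
    ((T.fjRes X h i n).app M).hom (((T.toFj X m i n).app M).hom a) =
      ((T.toFj X j i n).app M).hom a := by
  rw [toFj_eq, toFj_eq]
  exact fjRes_ι ..

lemma toFj_bijective_of_dim_le {m : ℕ} (hm : WeilCoh.dim X.scheme ≤ m) (i n : ℤ) :
    Function.Bijective ((T.toFj X m i n).app M).hom := by
  have : IsIso X.resTop.hom := inferInstanceAs (IsIso X.scheme.topIso.hom)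
  have hp := pull_bijective T M X.resTop i n
  constructor
  · refine (injective_iff_map_eq_zero _).2 fun a ha => ?_
    rw [toFj_eq] at ha
    obtain ⟨U, hle, h0⟩ := ι_eq_zero T _ M i n _ ha
    have hU := eq_top_of_containsFj hm U.2.1
    obtain ⟨U, hU'⟩ := U
    subst hU
    rw [resLE_self, pull_id] at h0
    exact hp.1 (h0.trans (map_zero _).symm)
  · intro α
    obtain ⟨U, b, rfl⟩ := exists_rep T M i n α
    have hU := eq_top_of_containsFj hm U.2.1
    obtain ⟨U, hU'⟩ := U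
    subst hU
    obtain ⟨a, ha⟩ := hp.2 b
    exact ⟨a, by rw [toFj_eq, ha]⟩

/-- The restriction to `F_j` is bijective when the groups of all higher points vanish. -/
lemma toFj_bijective {i n : ℤ}
    (h : ∀ m, j ≤ m → ∀ (x : X.cdPt (m + 1)) (k : ℤ), k ≤ i + 1 - 2 * ((m : ℤ) + 1) →
      ∀ a : T.ptGp X x.1 M k (n - ((m : ℤ) + 1)), a = 0) :
    Function.Bijective ((T.toFj X j i n).app M).hom := by
  suffices H : ∀ k m, j ≤ m → WeilCoh.dim X.scheme ≤ m + k →
      Function.Bijective ((T.toFj X m i n).app M).hom from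
    H (WeilCoh.dim X.scheme) j le_rfl (Nat.le_add_left _ _)
  intro k
  induction k with
  | zero => exact fun m _ hm => toFj_bijective_of_dim_le hm i n
  | succ k ih =>
    intro m hjm hm
    have h1 := ih (m + 1) (hjm.trans (Nat.le_succ m)) (by omega)
    have h2 := fjRes_bijective (T := T) (X := X) (M := M) (j := m) (i := i) (n := n)
      (fun x a => h m hjm x _ (by omega) a) (fun x a => h m hjm x _ le_rfl a)
    have he : ⇑((T.toFj X m i n).app M).hom = ⇑((T.fjRes X (Nat.le_succ m) i n).app M).hom ∘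
        ⇑((T.toFj X (m + 1) i n).app M).hom := funext fun a => (fjRes_toFj _ i n a).symm
    rw [he]
    exact h2.comp h1

section zero

variable [IsReduced X.scheme]

lemma Good.isIso_pairι (_hG : Good X 0 U Y s) (hU : U = ⊥) : IsIso (pairι X U Y) := by
  have : IsReduced (X.res Y).scheme := inferInstanceAs (IsReduced (Y : Scheme.{u}))
  have : Surjective (pairι X U Y) := ⟨fun y => by
    have : y ∈ Set.range (pairι X U Y) := by
      rw [range_pairι, Set.mem_preimage, hU]; exact id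
    exact this⟩
  exact isIso_of_isClosedImmersion_of_surjective _

lemma Good.exists_push_eq (hG : Good X 0 U Y s) (hU : U = ⊥) (hs : s.Nonempty) {i n i' n' : ℤ}
    (hi : i' = i + 2 * ((0 : ℕ) : ℤ)) (hn : n' = n + ((0 : ℕ) : ℤ)) :
    Function.Bijective (T.push (pairι X U Y) M i n i' n' (by rw [hG.relCodim_pairZ hs]; exact hi)
      (by rw [hG.relCodim_pairZ hs]; exact hn)).hom :=
  have := hG.isIso_pairι hU
  push_bijective T M _ _ _

lemma exists_good_zero (X : Obj V) :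
    ∃ (Y : X.scheme.Opens) (s : Finset X.scheme) (_ : Good X 0 ⊥ Y s), ContainsFj X 0 Y ∧
      ∀ z, WeilCoh.codim X.scheme z = 0 → z ∈ s := by
  obtain ⟨Y, s, -, hY, hG, hs⟩ := exists_good X 0 ⊥ ⊤ (fun z hz => absurd hz (Nat.not_lt_zero _))
    (fun _ _ => trivial)
  rw [bot_inf_eq] at hG
  exact ⟨Y, s, hG, hY, fun z hz => (hs z).2 ⟨hz, id⟩⟩

lemma eq_zero_of_isEmpty [IsEmpty X.scheme] {m : ℕ} {i n : ℤ} (a : T.fjGp X m M i n) : a = 0 := by
  obtain ⟨U, b, rfl⟩ := exists_rep T M i n a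
  have : IsEmpty (X.res U.1).scheme := ⟨fun z => IsEmpty.false (U.1.ι z)⟩
  rw [isZero_of_isEmpty T M i n b]
  exact map_zero _

lemma isEmpty_of_good (hG : Good X 0 ⊥ Y s) (hY : ContainsFj X 0 Y) (hs : ¬ s.Nonempty) :
    IsEmpty X.scheme := by
  by_contra h
  rw [not_isEmpty_iff] at h
  obtain ⟨z, hz⟩ := exists_pdim_eq_dim X.mem
  have hzY := hY z (by simp [WeilCoh.codim, hz])
  exact hs ((hG.cover z hzY id).imp fun x hx => hx.1)

lemma fjGp_zero_eq_zero {i n i' n' : ℤ} (hi : i' = i + 2 * ((0 : ℕ) : ℤ))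
    (hn : n' = n + ((0 : ℕ) : ℤ)) (h : ∀ (x : X.cdPt 0) (a : T.ptGp X x.1 M i n), a = 0)
    (α : T.fjGp X 0 M i' n') : α = 0 := by
  obtain ⟨Y₁, b, rfl⟩ := exists_rep T M i' n' α
  obtain ⟨Y, s, hG, hY, -⟩ := exists_good_zero X
  by_cases hs : s.Nonempty
  · have hY' : ContainsFj X 0 (Y ⊓ Y₁.1) := containsFj_inf hY Y₁.2.1
    have hG' := hG.restrict (Y' := Y ⊓ Y₁.1) inf_le_left (containsFj_dim X hY')
      fun z hz => hY' z (hG.codim_eq z hz).le
    have hd := (containsFj_dim X hY').trans Y₁.2.2.symm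
    rw [← fjι_res (T := T) (M := M) (U := Y₁) (U' := fjIdx hY') inf_le_right hd i' n' b]
    obtain ⟨r, hr⟩ := (hG'.exists_push_eq (T := T) (M := M) (by simp) hs hi hn).2
      ((T.pull (X.resLE (U := Y ⊓ Y₁.1) (U' := Y₁.1) inf_le_right hd) M i' n').hom b)
    exact (congrArg _ hr.symm).trans
      (fjι_push_eq_zero hG' hY' hs r fun x => h (hG'.pt x) _)
  · have := isEmpty_of_good hG hY hs
    exact eq_zero_of_isEmpty _

lemma pushTot_bijective_zero (P : T.PushData X 0) {i n i' n' : ℤ}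
    (hi : i' = i + 2 * ((0 : ℕ) : ℤ)) (hn : n' = n + ((0 : ℕ) : ℤ)) :
    Function.Bijective (P.tot M i n i' n' hi hn).hom := by
  classical
  obtain ⟨Y, s, hG, hY, hall⟩ := exists_good_zero X
  have hsupp : ∀ (b : T.ptSum X 0 M i n) (x : X.cdPt 0), x.1 ∉ s → b x = 0 :=
    fun b x hx => absurd (hall x.1 x.2) hx
  by_cases hs : s.Nonempty
  swap
  · have := isEmpty_of_good hG hY hs
    refine ⟨fun b b' _ => DFinsupp.ext fun x => (IsEmpty.false x.1).elim, fun α => ⟨0, ?_⟩⟩
    rw [eq_zero_of_isEmpty α, map_zero]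
  constructor
  · refine (injective_iff_map_eq_zero _).2 fun b hb => ?_
    choose W w hw using fun x : s => exists_rep T M i n (b (hG.pt x))
    obtain ⟨Y', hle, hY', hp⟩ := exists_shrink X 0 Y hY s hG.codim_eq
      (fun x => (W x).1) (fun x => gen_mem X x.1 (W x).2.1)
    have hG' := hG.restrict hle (containsFj_dim X hY') fun z hz => hY' z (hG.codim_eq z hz).le
    have hd : ∀ x : s, WeilCoh.dim (piece X x.1 Y' : Scheme.{u}) =
        WeilCoh.dim ((W x).1 : Scheme.{u}) := fun x =>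
      (dim_open_ptSub X x.1 _ ⟨_, gen_mem_piece X x.1 (hG'.mem x.1 x.2)⟩).trans (W x).2.2.symm
    let w' : ∀ x : s, T.gp ((X.ptSub x.1).res (piece X x.1 Y')) M i n :=
      fun x => (T.pull ((X.ptSub x.1).resLE (hp x) (hd x)) M i n).hom (w x)
    let r := ∑ x : s, (IsDisjointCover.pushMem T M hG'.isDisjointCover x i n).hom (w' x)
    have hr : ∀ x : s, ptCls T M hG' x i n r = b (hG'.pt x) := fun x => by
      show ((T.ptι X x.1 i n (pieceIdx X x.1 (hG'.mem x.1 x.2))).app M).hom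
        ((T.pull (hG'.toZ x) M i n).hom r) = _
      rw [hG'.isDisjointCover.pull_sum x w']
      exact (fjι_res (T := T) (M := M) (U := W x)
        (U' := pieceIdx X x.1 (hG'.mem x.1 x.2)) (hp x) (hd x) i n (w x)).trans (hw x)
    have hpu := (tot_push P hG' hY' hs hi hn
      (by rw [hG'.relCodim_pairZ hs]; exact hi) (by rw [hG'.relCodim_pairZ hs]; exact hn)
      b (hsupp b) r hr).symm.trans hb
    obtain ⟨Y'', hle'', h0⟩ := ι_eq_zero T (fjIdx hY') M i' n' _ hpu
    have hG'' := hG'.restrict hle'' Y''.2.2 fun z hz => Y''.2.1 z (hG'.codim_eq z hz).le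
    have hZ : WeilCoh.dim (pairZ X ((⊥ : X.scheme.Opens) ⊓ Y' ⊓ Y''.1) Y''.1).scheme =
        WeilCoh.dim (pairZ X ((⊥ : X.scheme.Opens) ⊓ Y') Y').scheme := by
      rw [hG''.dim_pairZ hs, hG'.dim_pairZ hs]
    have h1 := (pull_push_pairMap X hle'' T M (hG''.dimY.trans hG'.dimY.symm) hZ _ _
      (by rw [hG''.relCodim_pairZ hs]; exact hi) (by rw [hG''.relCodim_pairZ hs]; exact hn) r).symm.trans h0
    have h2 : (T.pull (pairMap X hle'' hZ) M i n).hom r = 0 :=
      (hG''.exists_push_eq (T := T) (M := M) (by simp) hs hi hn).1 (h1.trans (map_zero _).symm)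
    refine DFinsupp.ext fun x => ?_
    have hx := hall x.1 x.2
    have hd' : WeilCoh.dim (piece X x.1 Y''.1 : Scheme.{u}) =
        WeilCoh.dim (piece X x.1 Y' : Scheme.{u}) :=
      (dim_piece X x.1 (hG''.mem _ hx)).trans (dim_piece X x.1 (hG'.mem _ hx)).symm
    refine (hr ⟨x.1, hx⟩).symm.trans ?_
    have e := fjι_res (T := T) (M := M) (U := pieceIdx X x.1 (hG'.mem _ hx))
      (U' := pieceIdx X x.1 (hG''.mem _ hx)) ((X.ptSubι x.1).preimage_mono hle'') hd' i n
      ((T.pull (hG'.toZ ⟨x.1, hx⟩) M i n).hom r)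
    refine e.symm.trans ?_
    have e2 := pull_pull T M (hG''.toZ ⟨x.1, hx⟩) (pairMap X hle'' hZ) i n r
    rw [hG'.toZ_pairMap ⟨x.1, hx⟩ hle'' hG'' hZ hd', ← pull_pull, h2, map_zero] at e2
    exact (congrArg _ e2.symm).trans (map_zero _)
  · intro α
    obtain ⟨Y₁, b, rfl⟩ := exists_rep T M i' n' α
    have hY' : ContainsFj X 0 (Y ⊓ Y₁.1) := containsFj_inf hY Y₁.2.1
    have hG' := hG.restrict (Y' := Y ⊓ Y₁.1) inf_le_left (containsFj_dim X hY')
      fun z hz => hY' z (hG.codim_eq z hz).le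
    have hd := (containsFj_dim X hY').trans Y₁.2.2.symm
    rw [← fjι_res (T := T) (M := M) (U := Y₁) (U' := fjIdx hY') inf_le_right hd i' n' b]
    obtain ⟨r, hr⟩ := (hG'.exists_push_eq (T := T) (M := M) (by simp) hs hi hn).2
      ((T.pull (X.resLE (U := Y ⊓ Y₁.1) (U' := Y₁.1) inf_le_right hd) M i' n').hom b)
    refine ⟨∑ x : s, DirectSum.lof R (X.cdPt 0)
      (fun y : X.cdPt 0 => T.ptGp X y.1 M i n) (hG'.pt x) (ptCls T M hG' x i n r), ?_⟩
    refine Eq.trans ?_ ((congrArg _ hr.symm).trans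
      (fjι_push_eq_sum P hG' hY' hs hi hn _ _ r)).symm
    rw [map_sum]
    exact Finset.sum_congr rfl fun x _ => P.tot_lof M i n i' n' hi hn (hG'.pt x) _

lemma fjGp_eq_zero {b : ℕ}
    (hc : ∀ (x : X.scheme) (k l : ℤ), (WeilCoh.pdim X.scheme x : ℤ) + b < k →
      ∀ a : T.ptGp X x M k l, a = 0) :
    ∀ (j : ℕ) (i n : ℤ), (WeilCoh.dim X.scheme : ℤ) + j + b < i →
      ∀ α : T.fjGp X j M i n, α = 0 := by
  intro j
  induction j with
  | zero =>
    intro i n hi α
    refine fjGp_zero_eq_zero (i := i) (n := n) (by simp) (by simp) (fun x a => hc x.1 i n ?_ a) α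
    have := pdim_le_dim X.mem x.1
    omega
  | succ j ih =>
    intro i n hi α
    have hj : (WeilCoh.dim X.scheme : ℤ) + j + b < i := by push_cast at hi; omega
    refine fjRes_injective (T := T) (X := X) (M := M) (j := j) (i' := i) (n' := n)
      (i := i - 2 * ((j + 1 : ℕ) : ℤ)) (n := n - ((j + 1 : ℕ) : ℤ)) (by ring) (by ring)
      (fun x a => ?_) ((ih i n hj _).trans (map_zero _).symm)
    refine hc x.1 _ _ ?_ a
    have h2 := x.2
    simp only [WeilCoh.codim] at h2
    push_cast at hi ⊢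
    omega

end zero

end Groth.Agent.BMLib
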